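import Groth.Agent.L13.AlgzSec.Lift
import Groth.Agent.L18.LefConnected

/-!
# Systems of bundles on the thickenings are covered by the reductions of sums of negative twists
-/

set_option autoImplicit false
set_option linter.style.haveILetI false
set_option linter.unusedSectionVars false
set_option backward.isDefEq.respectTransparency false
set_option backward.isDefEq.respectTransparency.types false
universe u

open CategoryTheory CategoryTheory.Limits AlgebraicGeometry Opposite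

noncomputable section

namespace Groth.L13.AlgzSec

open Groth.L00.Tensor (tensorMap tensorIso tensorComm tensorAssoc tensorUnitLeft tensorUnitRight tensorLeftF tensorRightF)
open Groth.L16.CohLinear (hmap hmap_comp exact_hmap_hmap exact_hmap_delta exact_delta_hmap delta)
open Groth.L22.Reg (sm sm_comp sm_id sm_map_sub sm_map_zero sm_zero sm_map_add)
open Groth.L18.LefTower (sm_smul surjective_sm injective_sm epi_of_sm mono_of_sm exists_kernel_preimage)
open Groth.L20.SeeNormal (sI)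
open Groth.L18.GenLoc (secOf secOf_homOfSection)

variable {X : Scheme.{u}} {I : X.IdealSheafData}

/-- The map of a global class. -/
def toHom {M : X.Modules} (y : Coh.HH X M 0) : Coh.structureModule X ⟶ M :=
  Groth.L16.homOfSection M (Groth.L16.HomSh.h0Equiv M y)

theorem toHom_comp {M N : X.Modules} (f : M ⟶ N) (y : Coh.HH X M 0) : toHom y ≫ f = toHom (hmap f 0 y) :=
  Groth.L18.LefConnected.hom_ext_secOf (by
    rw [toHom, toHom, secOf_homOfSection]
    refine Eq.trans ?_ (Groth.L16.HomSh.h0Equiv_map f y).symm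
    show f.app ⊤ (secOf (Groth.L16.homOfSection M _)) = _
    rw [secOf_homOfSection])

theorem toHom_surjective {M : X.Modules} (g : Coh.structureModule X ⟶ M) : ∃ y : Coh.HH X M 0, toHom y = g :=
  ⟨(Groth.L16.HomSh.h0Equiv M).symm (secOf g), Groth.L18.LefConnected.hom_ext_secOf (by
    rw [toHom, secOf_homOfSection, AddEquiv.apply_symm_apply])⟩

namespace VSys

variable (T : VSys I) (Q : Sec.TF (I := I))

/-- The composite transitions. -/
def tau {n k : ℕ} (h : n ≤ k) : T.G k ⟶ T.G n :=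
  Nat.leRecOn (C := fun k => T.G k ⟶ T.G n) h (fun {k} g => T.tr k ≫ g) (𝟙 _)

theorem tau_self (n : ℕ) : T.tau (le_refl n) = 𝟙 _ := Nat.leRecOn_self (C := fun k => T.G k ⟶ T.G n) _

theorem tau_succ {n k : ℕ} (h : n ≤ k) : T.tau (h.trans k.le_succ) = T.tr k ≫ T.tau h :=
  Nat.leRecOn_succ (C := fun k => T.G k ⟶ T.G n) h (next := fun {k} g => T.tr k ≫ g) (𝟙 _)

theorem tau_tr {n k : ℕ} (h : n + 1 ≤ k) : T.tau h ≫ T.tr n = T.tau ((Nat.le_succ n).trans h) := by
  induction h with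
  | refl => rw [tau_self, Category.id_comp]; exact ((T.tau_succ (le_refl n)).trans (by rw [tau_self, Category.comp_id])).symm
  | @step k h ih =>
    rw [show T.tau (Nat.le.step h) = T.tr k ≫ T.tau h from T.tau_succ h, Category.assoc, ih]
    exact (T.tau_succ ((Nat.le_succ n).trans h)).symm

/-- Surjectivity at the zeroth level suffices. -/
theorem epi_of_epi_zero (hgen : ∀ x, ∃ t, sI I x = Ideal.span {t}) {E : X.Modules} (ψ : ∀ n, E ⟶ T.G n)
    (hψ : ∀ n, ψ (n + 1) ≫ T.tr n = ψ n) [Epi (ψ 0)] : ∀ n, Epi (ψ n)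
  | 0 => inferInstance
  | n + 1 => by
    haveI := epi_of_epi_zero hgen ψ hψ n
    refine epi_of_sm _ fun x v => ?_
    obtain ⟨t, ht⟩ := hgen x
    obtain ⟨w, hw⟩ := surjective_sm (ψ n) x (sm x (T.tr n) v)
    obtain ⟨u, hu⟩ := T.ker_tr n x t ht (v - sm x (ψ (n + 1)) w) (by
      rw [sm_map_sub, ← sm_comp, hψ, hw, sub_self])
    obtain ⟨w', hw'⟩ := surjective_sm (ψ n) x (sm x (T.tr n) u)
    obtain ⟨u', hu'⟩ := T.ker_tr n x t ht (u - sm x (ψ (n + 1)) w') (by
      rw [sm_map_sub, ← sm_comp, hψ, hw', sub_self])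
    refine ⟨w + t ^ (n + 1) • w', ?_⟩
    have h0 : t ^ (n + 1) • (t ^ (n + 1) • u') = 0 := by
      rw [smul_smul, ← pow_add, show n + 1 + (n + 1) = n + (n + 1 + 1) by omega, pow_add, mul_smul,
        T.kill (n + 1) x t ht u', smul_zero]
    rw [sm_map_add, sm_smul]
    rw [hu', smul_sub, hu, sub_sub, sub_eq_zero] at h0
    exact h0.symm

end VSys

variable {k : Type u} [Field k] [IsNoetherian X] (f : X ⟶ Spec (CommRingCat.of k)) [IsProper f]
  (S : Sec I) (hamp : CohB1.IsAmple S.L) (Q : Sec.TF (I := I))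

include f hamp in
/-- Every system of bundles on the thickenings is covered by the reductions of a sum of negative twists. -/
theorem exists_cover {c₀ : ℕ} (h₀ : ∀ q, q ≤ 2 → S.KillFrom c₀ q 0 Q.O') (T : VSys I) :
    ∃ (r a : ℕ) (ψ : ∀ n, CohB1.tensorMod (FlatMod.freeMod X r) (CohB1.tensorPow S.M a) ⟶ T.G n),
      (∀ n, ψ (n + 1) ≫ T.tr n = ψ n) ∧ ∀ n, Epi (ψ n) := by
  classical
  letI : X.Over (Spec (CommRingCat.of k)) := ⟨f⟩
  haveI : IsProper (X ↘ Spec (CommRingCat.of k)) := ‹IsProper f›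
  have hgen := S.exists_gen
  let C := c₀ + c₀ + (c₀ + c₀)
  obtain ⟨t, ht⟩ := exists_killFrom_level Q hgen S h₀ hamp (C + C + 1) (T.vb (C + C))
  obtain ⟨a₁, ha₁⟩ := exists_lift_tower (A := k) S hamp (T.tower Q hgen) C t (ht 1 le_rfl)
  let N := Q.N
  let K : ℕ → X.Modules := fun n => kernel (Q.π (T.G n))
  haveI : ∀ n, Coh.IsQCoh (Q.Φ.obj (T.G n)) := fun n => (Q.isCoh_Φ (T.coh n)).1
  have hK : ∀ n, Coh.IsCoh (K n) := fun n => Groth.L16.CohSupport.isCoh_kernel (T.coh n) _
  have hSπ : ∀ n, (ShortComplex.mk (kernel.ι (Q.π (T.G n))) (Q.π (T.G n)) (kernel.condition _)).ShortExact := fun n =>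
    { exact := ShortComplex.exact_kernel _, mono_f := inferInstanceAs (Mono (kernel.ι (Q.π (T.G n))))
      epi_g := epi_of_sm _ fun x => (Q.π_stalk x (hgen x) _).1 }
  let κ : ∀ {n m : ℕ}, n ≤ m → (K m ⟶ K n) := fun {n m} h => kernel.map _ _ (T.tau h) (Q.Φ.map (T.tau h))
    (Q.π_natural (T.tau h)).symm
  have hκι : ∀ {n m : ℕ} (h : n ≤ m), κ h ≫ kernel.ι _ = kernel.ι _ ≫ T.tau h := fun h => kernel.lift_ι _ _ _
  have hκs : ∀ {n m : ℕ} (h : n ≤ m) x, Function.Surjective (sm x (κ h)) := fun {n m} h x z => by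
    have key : ∀ m (h : n ≤ m) (v : (Groth.L00.Stk.F X x).obj (T.G n)),
        v ∈ Q.K x • (⊤ : Submodule (X.presheaf.stalk x) ((Groth.L00.Stk.F X x).obj (T.G n))) →
        ∃ w ∈ Q.K x • (⊤ : Submodule (X.presheaf.stalk x) ((Groth.L00.Stk.F X x).obj (T.G m))), sm x (T.tau h) w = v := by
      intro m h
      induction h with
      | refl => intro v hv; exact ⟨v, hv, by rw [VSys.tau_self, sm_id]⟩
      | @step m h ih =>
        intro v hv
        obtain ⟨w, hw, rfl⟩ := ih v hv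
        obtain ⟨u, hu, rfl⟩ := T.K_surj Q m x hw
        exact ⟨u, hu, by rw [show T.tau (Nat.le.step h) = T.tr m ≫ T.tau h from T.tau_succ h, sm_comp]⟩
    obtain ⟨w, hw, hw'⟩ := key m h (sm x (kernel.ι _) z) (((Q.π_stalk x (hgen x) _).2 _).1 (by
      rw [← sm_comp, kernel.condition, sm_zero]))
    obtain ⟨y, rfl⟩ := exists_kernel_preimage (Q.π (T.G m)) x (((Q.π_stalk x (hgen x) _).2 w).2 hw)
    exact ⟨y, injective_sm (kernel.ι _) x (by rw [← sm_comp, hκι, sm_comp, hw'])⟩
  have hiso : ∀ n, N ≤ n → IsIso (κ (Nat.le_succ n)) := fun n hn => by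
    haveI : Mono (κ (Nat.le_succ n)) := mono_of_sm _ fun x => by
      refine (injective_iff_map_eq_zero ((Groth.L00.Stk.F X x).map (κ (Nat.le_succ n))).hom).2 fun z hz => ?_
      refine injective_sm (kernel.ι _) x ?_
      rw [sm_map_zero]
      refine T.eq_zero_of_mem_K Q hn x (hgen x) (((Q.π_stalk x (hgen x) _).2 _).1 (by
        rw [← sm_comp, kernel.condition, sm_zero])) ?_
      have h1 : T.tau (Nat.le_succ n) = T.tr n := (T.tau_succ (le_refl n)).trans (by rw [T.tau_self, Category.comp_id])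
      rw [← h1, ← sm_comp, ← hκι, sm_comp]
      exact (congrArg (sm x (kernel.ι _)) hz).trans (sm_map_zero x _)
    haveI : Epi (κ (Nat.le_succ n)) := epi_of_sm _ (hκs _)
    exact isIso_of_mono_of_epi _
  haveI : Epi (κ (Nat.zero_le N)) := epi_of_sm _ (hκs _)
  haveI := (hK 0).1
  obtain ⟨a₂, ha₂⟩ := Groth.L16.Rees.RelVanish.exists_vanishing f hamp (hK N)
  obtain ⟨a₃, ha₃⟩ := Groth.L16.Rees.RelVanish.exists_vanishing f hamp
    (Groth.L16.CohSupport.isCoh_kernel (hK N) (κ (Nat.zero_le N)))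
  obtain ⟨a₄, ha₄⟩ := Groth.L18.Ample.exists_forall_isGloballyGenerated hamp (T.G 0) (T.coh 0)
  let a := a₁ + a₂ + a₃ + a₄
  let W := CohB1.tensorPow S.L a
  let E := tensorRightF W
  let p := Groth.L22.EnrSev.powInv S.inv a
  haveI : E.IsEquivalence := Groth.L22.PDual.isEquivalence_tensorRightF (tensorComm _ _ ≪≫ p)
  haveI : E.Additive := Functor.additive_of_preserves_binary_products _
  have hvan : ∀ n, N ≤ n → Subsingleton (Coh.HH X (E.obj (K n)) 1) := fun n hn => by
    induction n, hn using Nat.le_induction with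
    | base => exact ha₂ a (by omega) 1 one_pos
    | succ n hn ih =>
      haveI := hiso n hn
      haveI := ih
      exact Groth.L22.EnrSev.subsingleton_of_iso (E.mapIso (asIso (κ (Nat.le_succ n)))).symm 1 ih
  have hSE := fun n => (hSπ n).map_of_exact E
  have lift : ∀ y : Coh.HH X (E.obj (T.G 0)) 0, ∃ z : ∀ n, Coh.HH X (E.obj (T.G n)) 0,
      (∀ n, hmap (E.map (T.tr n)) 0 (z (n + 1)) = z n) ∧ z 0 = y := by
    intro y
    obtain ⟨σ, hσ, hσ₀⟩ := ha₁ a (by omega) (hmap (E.map (Q.π (T.G 0))) 0 y)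
    have hπ : ∀ {n m : ℕ} (h : n ≤ m) (z : Coh.HH X (E.obj (T.G m)) 0),
        hmap (E.map (Q.π (T.G n))) 0 (hmap (E.map (T.tau h)) 0 z) =
          hmap (E.map (Q.Φ.map (T.tau h))) 0 (hmap (E.map (Q.π (T.G m))) 0 z) := fun h z => by
      rw [← hmap_comp, ← hmap_comp, ← Functor.map_comp, ← Functor.map_comp, Q.π_natural]
    have hσN : ∀ n, hmap (E.map (Q.Φ.map (T.tau (Nat.zero_le n)))) 0 (σ n) = σ 0 := fun n => by
      induction n with
      | zero => rw [T.tau_self, CategoryTheory.Functor.map_id, CategoryTheory.Functor.map_id,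
          Groth.L16.CohLinear.hmap_id]
      | succ n ih =>
        rw [show T.tau (Nat.zero_le (n + 1)) = T.tr n ≫ T.tau (Nat.zero_le n) from T.tau_succ _,
          Functor.map_comp, Functor.map_comp, hmap_comp]
        exact (congrArg (hmap (E.map (Q.Φ.map (T.tau (Nat.zero_le n)))) 0) (hσ n)).trans ih
    -- at the stable level
    obtain ⟨zN, hzN, hzN₀⟩ : ∃ z : Coh.HH X (E.obj (T.G N)) 0,
        hmap (E.map (Q.π (T.G N))) 0 z = σ N ∧ hmap (E.map (T.tau (Nat.zero_le N))) 0 z = y := by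
      obtain ⟨z, hz⟩ := (exact_hmap_delta (hSE N) 0 (σ N)).1 (@Subsingleton.elim _ (hvan N le_rfl) _ _)
      have h1 : hmap (E.map (Q.π (T.G 0))) 0 (y - hmap (E.map (T.tau (Nat.zero_le N))) 0 z) = 0 := by
        rw [map_sub, hπ]
        refine sub_eq_zero.2 ?_
        rw [← hσ₀, ← hσN N]
        exact congrArg (hmap (E.map (Q.Φ.map (T.tau (Nat.zero_le N)))) 0) hz.symm
      obtain ⟨q, hq⟩ := (exact_hmap_hmap (hSE 0) 0 _).1 h1
      let Sk := ShortComplex.mk (kernel.ι (κ (Nat.zero_le N))) (κ (Nat.zero_le N)) (kernel.condition _)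
      have hSk : Sk.ShortExact :=
        { exact := ShortComplex.exact_kernel _, mono_f := inferInstanceAs (Mono (kernel.ι (κ (Nat.zero_le N))))
          epi_g := inferInstanceAs (Epi (κ (Nat.zero_le N))) }
      obtain ⟨q', hq'⟩ := (exact_hmap_delta (hSk.map_of_exact E) 0 q).1
        (@Subsingleton.elim _ (ha₃ a (by omega) 1 one_pos) _ _)
      refine ⟨(show Coh.HH X (E.obj (T.G N)) 0 from z) + hmap (E.map (kernel.ι (Q.π (T.G N)))) 0 q', ?_, ?_⟩
      · rw [map_add, ← hmap_comp (E.map (kernel.ι _)), ← Functor.map_comp, kernel.condition, Functor.map_zero,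
          Groth.L16.Rees.hmap_zero, add_zero]
        exact hz
      · rw [map_add, ← hmap_comp (E.map (kernel.ι _)), ← Functor.map_comp, ← hκι, Functor.map_comp, hmap_comp]
        change _ + hmap _ 0 (hmap (Sk.map E).g 0 q') = y
        rw [hq']
        change _ + hmap ((ShortComplex.mk (kernel.ι (Q.π (T.G 0))) (Q.π (T.G 0)) (kernel.condition _)).map E).f 0 q = y
        rw [hq, add_sub_cancel]
    have up : ∀ n, N ≤ n → ∀ z : Coh.HH X (E.obj (T.G n)) 0, hmap (E.map (Q.π (T.G n))) 0 z = σ n →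
        ∃ w : Coh.HH X (E.obj (T.G (n + 1))) 0,
          hmap (E.map (Q.π (T.G (n + 1)))) 0 w = σ (n + 1) ∧ hmap (E.map (T.tr n)) 0 w = z := by
      intro n hn z hz
      obtain ⟨w, hw⟩ := (exact_hmap_delta (hSE (n + 1)) 0 (σ (n + 1))).1
        (@Subsingleton.elim _ (hvan (n + 1) (hn.trans n.le_succ)) _ _)
      have h1 : T.tau (Nat.le_succ n) = T.tr n := (T.tau_succ (le_refl n)).trans (by rw [T.tau_self, Category.comp_id])
      have h2 : hmap (E.map (Q.π (T.G n))) 0 (z - hmap (E.map (T.tr n)) 0 w) = 0 := by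
        rw [map_sub, hz, ← h1, hπ, h1]
        refine sub_eq_zero.2 ?_
        exact ((congrArg (hmap (E.map (Q.Φ.map (T.tr n))) 0) hw).trans (hσ n)).symm
      obtain ⟨q, hq⟩ := (exact_hmap_hmap (hSE n) 0 _).1 h2
      haveI := hiso n hn
      refine ⟨(show Coh.HH X (E.obj (T.G (n + 1))) 0 from w) + hmap (E.map (kernel.ι (Q.π (T.G (n + 1))))) 0 (hmap (E.map (inv (κ (Nat.le_succ n)))) 0 q), ?_, ?_⟩
      · rw [map_add, ← hmap_comp (E.map (kernel.ι _)), ← Functor.map_comp, kernel.condition, Functor.map_zero,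
          Groth.L16.Rees.hmap_zero, add_zero]
        exact hw
      · rw [map_add, ← h1, ← hmap_comp (E.map (kernel.ι _)), ← Functor.map_comp, ← hκι, ← hmap_comp,
          ← Functor.map_comp, IsIso.inv_hom_id_assoc, h1]
        change _ + hmap ((ShortComplex.mk (kernel.ι (Q.π (T.G n))) (Q.π (T.G n)) (kernel.condition _)).map E).f 0 q = z
        rw [hq, add_sub_cancel]
    let Z : ∀ d, { z : Coh.HH X (E.obj (T.G (N + d))) 0 // hmap (E.map (Q.π (T.G (N + d)))) 0 z = σ (N + d) } :=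
      fun d => Nat.rec ⟨zN, hzN⟩ (fun d z => ⟨(up (N + d) (Nat.le_add_right _ _) z.1 z.2).choose,
        (up (N + d) (Nat.le_add_right _ _) z.1 z.2).choose_spec.1⟩) d
    have hZ : ∀ d, hmap (E.map (T.tr (N + d))) 0 (Z (d + 1)).1 = (Z d).1 := fun d =>
      (up (N + d) (Nat.le_add_right _ _) (Z d).1 (Z d).2).choose_spec.2
    refine ⟨fun n => hmap (E.map (T.tau (Nat.le_add_left n N))) 0 (Z n).1, fun n => ?_, ?_⟩
    · dsimp only
      rw [← hZ n, ← hmap_comp, ← hmap_comp, ← Functor.map_comp, ← Functor.map_comp, T.tau_tr]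
      exact congrArg (fun g => hmap (E.map g) 0 (Z (n + 1)).1) (T.tau_succ (Nat.le_add_left n N))
    · exact hzN₀
  obtain ⟨ι, g, hg⟩ := ha₄ a (by omega)
  haveI := hg
  obtain ⟨r, g', hg'⟩ := Groth.L16.NegPow.exists_finite_epi (Groth.L18.LefTower.isCoh_twist hamp (T.coh 0) a) g
  choose y hy using fun j : Fin r =>
    toHom_surjective (Sigma.ι (fun _ : Fin r => Coh.structureModule X) j ≫ g')
  choose z hz hz₀ using fun j => lift (y j)
  let G : ∀ n, FlatMod.freeMod X r ⟶ E.obj (T.G n) := fun n => Sigma.desc fun j => toHom (z j n)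
  have hG : ∀ n, G (n + 1) ≫ E.map (T.tr n) = G n := fun n => Sigma.hom_ext _ _ fun j => by
    simp only [G, Sigma.ι_desc_assoc, Sigma.ι_desc, toHom_comp, hz]
  have hG₀ : G 0 = g' := Sigma.hom_ext _ _ fun j => by simp only [G, Sigma.ι_desc, hz₀, hy]
  let e : E.obj (CohB1.tensorMod (FlatMod.freeMod X r) (CohB1.tensorPow S.M a)) ≅ FlatMod.freeMod X r :=
    tensorAssoc _ _ _ ≪≫ tensorIso (Iso.refl _) p ≪≫ tensorUnitRight _
  let ψ : ∀ n, CohB1.tensorMod (FlatMod.freeMod X r) (CohB1.tensorPow S.M a) ⟶ T.G n := fun n =>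
    E.preimage (e.hom ≫ G n)
  have hψ : ∀ n, ψ (n + 1) ≫ T.tr n = ψ n := fun n => E.map_injective (by
    rw [Functor.map_comp, Functor.map_preimage, Functor.map_preimage, Category.assoc, hG])
  haveI : Epi (ψ 0) := by
    refine E.epi_of_epi_map ?_
    rw [Functor.map_preimage, hG₀]
    haveI := hg'
    exact epi_comp _ _
  exact ⟨r, a, ψ, hψ, T.epi_of_epi_zero hgen ψ hψ⟩

end Groth.L13.AlgzSec
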