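import Groth.Agent.L12.DualVb
import Groth.Agent.L18.LefTwists
import Groth.Agent.L29.DCoh.Amplitude
import Groth.Agent.L17.FinLocBases

/-!
# Bundles embed in sums of positive twists
-/

set_option autoImplicit false
set_option maxHeartbeats 400000
set_option linter.style.haveILetI false
set_option linter.unusedSectionVars false
set_option backward.isDefEq.respectTransparency false
set_option backward.isDefEq.respectTransparency.types false
universe u

open CategoryTheory CategoryTheory.Limits AlgebraicGeometry Opposite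

noncomputable section

namespace Groth.L13.AlgzSec

open Groth.L00.Tensor (tensorIso tensorComm tensorUnitLeft tensorRightF)
open Groth.L17.Duality (dual homTensorIso tensorDualIso dualAdj hasSheafHom)

variable {Y : Scheme.{u}}

/-- A free module is its own dual. -/
theorem nonempty_dual_free (k : ℕ) [ModSite.HasSheafHom (O := Y.sheaf) (FlatMod.freeMod Y k)] :
    Nonempty (dual (FlatMod.freeMod Y k) ≅ FlatMod.freeMod Y k) := by
  obtain ⟨s, hs⟩ := Groth.L17.FinLocBases.exists_isBasis (FlatMod.freeMod Y k) (U := ⊤)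
    ((Scheme.Modules.restrictFunctorIsoPullback (⊤ : Y.Opens).ι).app _ ≪≫
      Groth.L29.LocFree.pullbackFreeIso _ k)
  have hT : ⊤ ≤ (⊤ : Y.Opens).ι ''ᵁ ⊤ :=
    ((Scheme.Hom.image_top_eq_opensRange (⊤ : Y.Opens).ι).trans (⊤ : Y.Opens).opensRange_ι).ge
  exact Groth.L20.ResDescent.nonempty_iso_free hT
    (Groth.L19.ProjBdl.isBasisOn_of_locBases (Groth.L17.LocBases.isBasis_dualBasis hs))

/-- The dual of an invertible module is its inverse. -/
theorem nonempty_dual_inverse {M N : Y.Modules} [ModSite.HasSheafHom (O := Y.sheaf) M]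
    (hM : FlatMod.IsFinLocFree M) (i : CohB1.tensorMod M N ≅ Coh.structureModule Y) :
    Nonempty (dual M ≅ N) := by
  let η := Groth.L22.PDual.invIso i
  let η' := Groth.L22.PDual.invIso (tensorComm N M ≪≫ i)
  let e : Y.Modules ≌ Y.Modules := CategoryTheory.Equivalence.mk (tensorRightF N) (tensorRightF M) η'.symm η
  exact ⟨(tensorUnitLeft (dual M)).symm ≪≫
    ((dualAdj M hM).leftAdjointUniq e.toAdjunction).app (Coh.structureModule Y) ≪≫ tensorUnitLeft N⟩

/-- A bundle embeds, with a bundle as cokernel, in a sum of a positive twist. -/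
theorem exists_embed [IsNoetherian Y] {L L' : Y.Modules} (hL : CohB1.IsAmple L)
    (i : CohB1.tensorMod L L' ≅ Coh.structureModule Y) {V : Y.Modules} (hV : FlatMod.IsFinLocFree V) :
    ∃ (e k : ℕ) (T : ShortComplex Y.Modules), T.ShortExact ∧ Nonempty (T.X₁ ≅ V) ∧
      Nonempty (T.X₂ ≅ CohB1.tensorMod (FlatMod.freeMod Y k) (CohB1.tensorPow L e)) ∧
      FlatMod.IsFinLocFree T.X₂ ∧ FlatMod.IsFinLocFree T.X₃ := by
  haveI := hasSheafHom V
  have hW : FlatMod.IsFinLocFree (dual V) := Groth.L20.ResDescent.isFinLocFree_dual V hV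
  obtain ⟨n, k, p, hp⟩ := Groth.L18.LefTwists.exists_epi_negPow hL i (Groth.L16.NegPow.isCoh_of_isFinLocFree hW)
  haveI := hp
  let M := CohB1.tensorPow L' n
  let F := FlatMod.freeMod Y k
  have hL' := Groth.L22.EnrSev.isInvertible_of_inverse hL.1 i
  have hM : FlatMod.IsFinLocFree M :=
    Groth.L20.ResDescent.isFinLocFree_of_isInvertible (Groth.L18.Ample.isInvertible_tensorPow hL' n)
  have hP : FlatMod.IsFinLocFree (CohB1.tensorMod F M) :=
    Groth.L16.NegPow.isFinLocFree_freeTensor (Groth.L18.Ample.isInvertible_tensorPow hL' n) k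
  let S := ShortComplex.mk (kernel.ι p) p (kernel.condition p)
  have hS : S.ShortExact :=
    { exact := ShortComplex.exact_kernel _, mono_f := inferInstanceAs (Mono (kernel.ι p)), epi_g := hp }
  have hK : FlatMod.IsFinLocFree S.X₁ := Groth.L29.DC.isFinLocFree_kernel_of_epi p hP hW
  obtain ⟨T, hT, ⟨a₁⟩, ⟨a₂⟩, ⟨a₃⟩⟩ := Groth.L12.DualVb.exists_dual_shortExact hS hK hP hW
  haveI := hasSheafHom (dual V)
  haveI := hasSheafHom (CohB1.tensorMod F M)
  haveI := hasSheafHom F
  haveI := hasSheafHom M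
  obtain ⟨b₁⟩ := Groth.L12.DualVb.nonempty_dual_iso (dual V)
  obtain ⟨b₂⟩ := Groth.L12.DualVb.nonempty_dual_iso (CohB1.tensorMod F M)
  obtain ⟨c⟩ := nonempty_dual_free (Y := Y) k
  obtain ⟨d⟩ := nonempty_dual_inverse hM (Groth.L22.EnrSev.powInv i n)
  refine ⟨n, k, T, hT, ⟨a₁ ≪≫ b₁.symm ≪≫
    (Groth.L17.LocBases.doubleDualIso (O := Y.sheaf) V (Groth.L17.FinLocBases.hasLocBases hV)).symm⟩,
    ⟨a₂ ≪≫ b₂.symm ≪≫ ((homTensorIso M F).app (Coh.structureModule Y)).symm ≪≫
      (tensorDualIso M hM).symm.app (dual F) ≪≫ tensorIso c d⟩,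
    Groth.L29.LocFree.of_iso a₂.symm (Groth.L12.DualVb.isFinLocFree_dual hP),
    Groth.L29.LocFree.of_iso a₃.symm (Groth.L12.DualVb.isFinLocFree_dual hK)⟩

end Groth.L13.AlgzSec
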