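import Groth.Agent.L18.OffAffineVanish
import Groth.Agent.L22.Reg.Lin
import Groth.Agent.L22.PDual.TwistExt

/-!
# Uniformity in negative twists of the vanishing below the depth, on projective space
-/

set_option autoImplicit false
set_option linter.style.haveILetI false
set_option linter.unusedSectionVars false
set_option backward.isDefEq.respectTransparency false
set_option backward.isDefEq.respectTransparency.types false
universe u

open CategoryTheory CategoryTheory.Limits AlgebraicGeometry IsLocalRing TopologicalSpace Opposite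

noncomputable section

namespace Groth.L13.AlgzSec

open Groth.L22.Reg (O')
open Groth.L16
open Groth.L16.CohLinear (hmap hmap_comp delta exact_hmap_hmap exact_hmap_delta)
open Groth.L17.IdealMulSec Groth.L17.IdealMulExtend
open Groth.L18.OffAffine (Deep image_top exists_restrict_section isNoetherian_P projective_sections subsingleton_sections deep_left)
open Groth.L00.Tensor (tensorRightF tensorComm)

variable {k : Type u} [Field k]

/-- The twist by `O(-e)`. -/
def tw (r e : ℕ) : (CohB1.ProjSpace r k).Modules ⥤ (CohB1.ProjSpace r k).Modules :=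
  tensorRightF (O' r k (-(e : ℤ)))

instance (r e : ℕ) : (tw (k := k) r e).IsEquivalence := by
  obtain ⟨a⟩ := Groth.L22.Reg.nonempty_O_add (n := r) (R := k) (show -(e : ℤ) + (e : ℤ) = 0 by omega)
  obtain ⟨b⟩ := Groth.L22.Reg.nonempty_O_zero r k
  exact Groth.L22.PDual.isEquivalence_tensorRightF (a ≪≫ b)

instance (r e : ℕ) : (tw (k := k) r e).Additive := Functor.additive_of_preserves_binary_products _

variable {r : ℕ}

local notation "P" => CohB1.ProjSpace r k

/-- High powers of `𝔞` kill `H^q` inside all negative twists of `F`, uniformly. -/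
def ZT (𝔞 : (CohB1.ProjSpace r k).IdealSheafData) (q : ℕ) (F : (CohB1.ProjSpace r k).Modules) : Prop :=
  ∃ N : ℕ, ∀ (e : ℕ) (x : Coh.HH (CohB1.ProjSpace r k) ((tw r e).obj ((Dual3.idealMul (𝔞 ^ N)).obj F)) q),
    hmap ((tw r e).map (Dual3.idealMulι (𝔞 ^ N) F)) q x = 0

/-- Negative twists surject onto coherent modules, with no cohomology in low degree in all further twists. -/
theorem exists_presentation_tw {F : (CohB1.ProjSpace r k).Modules} (hF : Coh.IsCoh F) :
    ∃ T : ShortComplex (CohB1.ProjSpace r k).Modules, T.ShortExact ∧ T.X₃ = F ∧ FlatMod.IsFinLocFree T.X₂ ∧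
      ∀ e q, q < r → Subsingleton (Coh.HH (CohB1.ProjSpace r k) ((tw r e).obj T.X₂) q) := by
  haveI := hF.1
  obtain ⟨N, hN⟩ := ProjTwist.exists_epi_neg_twists (CohB1.polyGrading r k)
    (fun i : ULift.{u} (Fin (r + 1)) => (⟨_, ProjSpace.X_mem r k i.down⟩ : CohB1.polyGrading r k 1)) one_pos
    (fun x => by
      obtain ⟨i, hi⟩ := ProjSpace.exists_mem_basicOpen_X r k x
      exact ⟨⟨i⟩, hi⟩) F hF.2
  obtain ⟨c, p, hp⟩ := hN (N + 1) (Nat.le_succ N)
  refine ⟨ShortComplex.mk (kernel.ι p) p (kernel.condition _),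
    { exact := ShortComplex.exact_kernel _, mono_f := inferInstance, epi_g := hp }, rfl,
    Groth.L18.NegVanish.isFinLocFree_sum c _, fun e q hq => ?_⟩
  exact Groth.L22.Reg.subsingleton_sigma_twist (n := r) (R := k) c
    (fun h => by have := h.2; omega) (fun h => by omega)

variable (𝔞 : (CohB1.ProjSpace r k).IdealSheafData) (U : (CohB1.ProjSpace r k).Opens) (hU : IsAffineOpen U)
  (hUa : (U : Set (CohB1.ProjSpace r k)) = (𝔞.support : Set (CohB1.ProjSpace r k))ᶜ)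

include hU hUa in
theorem zt_of_subsingleton {F : (CohB1.ProjSpace r k).Modules} (hF : Coh.IsCoh F) [Subsingleton Γ(F, U)] (q : ℕ) :
    ZT 𝔞 q F := by
  haveI := isNoetherian_P (k := k) (r := r)
  haveI := hF.1
  obtain ⟨s, hs⟩ := exists_restrict_section (0 : F ⟶ F) hU LinearMap.id (fun m => Subsingleton.elim _ _)
  have h0 : (Scheme.Modules.restrictFunctor U.ι).map (Dual3.idealMulι (𝔞 ^ 0) F) = 0 := by
    rw [← Category.comp_id ((Scheme.Modules.restrictFunctor U.ι).map _), ← hs, Functor.map_zero, comp_zero,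
      comp_zero]
  obtain ⟨N, ι, hι, hι0⟩ := exists_comp_eq_zero F F hF 𝔞 hUa 0 (Dual3.idealMulι (𝔞 ^ 0) F) h0
  refine ⟨N, fun e x => ?_⟩
  rw [← hι, hι0, Functor.map_zero]
  exact Groth.L16.Rees.hmap_zero q x

include hU hUa in
theorem zt_of_projective {F : (CohB1.ProjSpace r k).Modules} (hF : Coh.IsCoh F)
    [Module.Projective Γ(CohB1.ProjSpace r k, U) Γ(F, U)] {q : ℕ} (hq : q < r) : ZT 𝔞 q F := by
  haveI := isNoetherian_P (k := k) (r := r)
  obtain ⟨T, hT, rfl, h₂, hv⟩ := exists_presentation_tw hF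
  haveI := hF.1
  haveI : Coh.IsQCoh T.X₂ := (Groth.L16.NegPow.isCoh_of_isFinLocFree h₂).1
  haveI := hT.epi_g
  obtain ⟨σ, hσ⟩ := Module.projective_lifting_property (lapp T.g U) LinearMap.id
    (Groth.L16.AffineBC.surjective_app_of_epi T.g hU)
  obtain ⟨s, hs⟩ := exists_restrict_section T.g hU σ fun m => LinearMap.congr_fun hσ m
  obtain ⟨n, ψ, hψ⟩ := exists_extend T.X₂ T.X₃ hF 𝔞 U hUa s
  let D : (Dual3.idealMul (𝔞 ^ n)).obj T.X₃ ⟶ T.X₃ := ψ ≫ T.g - Dual3.idealMulι (𝔞 ^ n) T.X₃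
  have hD : (Scheme.Modules.restrictFunctor U.ι).map D = 0 := by
    rw [Functor.map_sub, Functor.map_comp, hψ, Category.assoc, hs, Category.comp_id, sub_self]
  obtain ⟨N, ι, hι, hι0⟩ := exists_comp_eq_zero T.X₃ T.X₃ hF 𝔞 hUa n D hD
  refine ⟨N, fun e x => ?_⟩
  haveI := hv e q hq
  have h : Dual3.idealMulι (𝔞 ^ N) T.X₃ = (ι ≫ ψ) ≫ T.g := by
    rw [Preadditive.comp_sub, sub_eq_zero] at hι0
    rw [← hι, Category.assoc, ← hι0]
  rw [h, Functor.map_comp, hmap_comp, Subsingleton.elim (hmap ((tw r e).map (ι ≫ ψ)) q x) 0, map_zero]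

/-- One step along a presentation. -/
theorem zt_step {T : ShortComplex (CohB1.ProjSpace r k).Modules} (hT : T.ShortExact) (h₁ : Coh.IsCoh T.X₁)
    (h₂ : Coh.IsCoh T.X₂) (h₃ : Coh.IsCoh T.X₃) {q : ℕ} (hv : ∀ e, Subsingleton (Coh.HH (CohB1.ProjSpace r k) ((tw r e).obj T.X₂) q))
    (hZ : ZT 𝔞 (q + 1) T.X₁) : ZT 𝔞 q T.X₃ := by
  classical
  haveI := isNoetherian_P (k := k) (r := r)
  haveI := h₁.1; haveI := h₂.1; haveI := h₃.1
  haveI := hT.mono_f; haveI := hT.epi_g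
  obtain ⟨N, hN⟩ := hZ
  obtain ⟨s, hs⟩ := exists_cover (CohB1.ProjSpace r k)
  have hAR : ∀ V : (CohB1.ProjSpace r k).affineOpens, ∃ c : ℕ, ∀ t : Γ(T.X₁, V.1),
      T.f.app V.1 t ∈ 𝔞.ideal V ^ (c + N) • (⊤ : Submodule Γ(CohB1.ProjSpace r k, V.1) Γ(T.X₂, V.1)) →
        t ∈ 𝔞.ideal V ^ N • (⊤ : Submodule Γ(CohB1.ProjSpace r k, V.1) Γ(T.X₁, V.1)) := by
    intro V
    haveI : IsNoetherianRing Γ(CohB1.ProjSpace r k, V.1) := IsLocallyNoetherian.component_noetherian V
    haveI := Groth.L20.ModStalk.finite_sections T.X₂ h₂ V.2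
    obtain ⟨c, hc⟩ := Ideal.exists_pow_inf_eq_pow_smul (𝔞.ideal V) (LinearMap.range (lapp T.f V.1))
    refine ⟨c, fun t ht => ?_⟩
    have h' : lapp T.f V.1 t ∈ 𝔞.ideal V ^ (c + N) • ⊤ ⊓ LinearMap.range (lapp T.f V.1) := ⟨ht, t, rfl⟩
    rw [hc _ (Nat.le_add_right _ _), Nat.add_sub_cancel_left] at h'
    have h'' := Submodule.smul_mono le_rfl (inf_le_right : _ ≤ LinearMap.range (lapp T.f V.1)) h'
    rw [← Submodule.map_top (f := lapp T.f V.1), ← Submodule.map_smul''] at h''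
    obtain ⟨t', ht', he⟩ := h''
    have hinj : Function.Injective (T.f.app V.1) := Groth.L16.Acc.app_injective T.f V.1
    exact hinj he ▸ ht'
  choose c hc using hAR
  let M := s.sup c + N
  let Φ := Dual3.idealMul (𝔞 ^ M)
  let π' := Φ.map T.g
  have hπ : π' ≫ Dual3.idealMulι (𝔞 ^ M) T.X₃ = Dual3.idealMulι (𝔞 ^ M) T.X₂ ≫ T.g :=
    kernel.lift_ι _ _ _
  haveI := isQCoh_idealMul (𝔞 ^ M) T.X₂
  haveI := isQCoh_idealMul (𝔞 ^ M) T.X₃
  haveI : Epi π' := by
    refine Preadditive.epi_of_cokernel_zero (Groth.L20.ResDescent.eq_zero_of_affine _ fun x => ?_)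
    obtain ⟨V, -, hxV⟩ := hs x
    refine ⟨V.1, V.2, hxV, fun m => ?_⟩
    have hm := (exists_app_eq_iff (𝔞 ^ M) T.X₃ V.2 _).1 ⟨m, rfl⟩
    rw [← LinearMap.range_eq_top.2 (show Function.Surjective (lapp T.g V.1) from
      Groth.L16.AffineBC.surjective_app_of_epi T.g V.2), ← Submodule.map_top (f := lapp T.g V.1),
      ← Submodule.map_smul''] at hm
    obtain ⟨e, he, hem⟩ := hm
    obtain ⟨w, hw⟩ := (exists_app_eq_iff (𝔞 ^ M) T.X₂ V.2 e).2 he
    have hwm : π'.app V.1 w = m := ι_app_injective (𝔞 ^ M) T.X₃ V.1 (by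
      show (π' ≫ Dual3.idealMulι (𝔞 ^ M) T.X₃).app V.1 w = _
      rw [hπ]
      exact (congrArg (T.g.app V.1) hw).trans hem)
    rw [← hwm]
    show (π' ≫ cokernel.π π').app V.1 w = 0
    rw [cokernel.condition]
    rfl
  let S' := ShortComplex.mk (kernel.ι π') π' (kernel.condition π')
  have hS' : S'.ShortExact :=
    { exact := ShortComplex.exact_kernel _, mono_f := inferInstance, epi_g := ‹Epi π'› }
  let κ : kernel π' ⟶ T.X₁ := hT.fIsKernel.lift (KernelFork.ofι (kernel.ι π' ≫ Dual3.idealMulι (𝔞 ^ M) T.X₂) (by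
    rw [Category.assoc, ← hπ, kernel.condition_assoc, zero_comp]))
  have hκ : κ ≫ T.f = kernel.ι π' ≫ Dual3.idealMulι (𝔞 ^ M) T.X₂ :=
    hT.fIsKernel.fac _ WalkingParallelPair.zero
  haveI := isQCoh_idealMul (𝔞 ^ N) T.X₁
  haveI : Coh.IsQCoh (kernel π') := Groth.L18.IdealModule.isQCoh_kernel π'
  haveI : Coh.IsQCoh (cokernel (Dual3.idealMulι (𝔞 ^ N) T.X₁)) :=
    (Groth.L00.AlgQCoh.isQCoh_kernel_cokernel _ ‹_› h₁.1).2
  haveI : Mono (Dual3.idealMulι (𝔞 ^ N) T.X₁) := inferInstanceAs (Mono (kernel.ι _))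
  have hl : κ ≫ cokernel.π (Dual3.idealMulι (𝔞 ^ N) T.X₁) = 0 := by
    refine Groth.L20.ResDescent.eq_zero_of_affine _ fun x => ?_
    obtain ⟨V, hVs, hxV⟩ := hs x
    refine ⟨V.1, V.2, hxV, fun m => ?_⟩
    have h1 : T.f.app V.1 (κ.app V.1 m) ∈
        𝔞.ideal V ^ (c V + N) • (⊤ : Submodule Γ(CohB1.ProjSpace r k, V.1) Γ(T.X₂, V.1)) := by
      have h2 := (exists_app_eq_iff (𝔞 ^ M) T.X₂ V.2 _).1 ⟨(kernel.ι π').app V.1 m, rfl⟩
      rw [Scheme.IdealSheafData.ideal_pow, Pi.pow_apply] at h2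
      have h3 : T.f.app V.1 (κ.app V.1 m) = (Dual3.idealMulι (𝔞 ^ M) T.X₂).app V.1 ((kernel.ι π').app V.1 m) :=
        congr($(hκ).app V.1 m)
      rw [h3]
      exact Submodule.smul_mono_left (Ideal.pow_le_pow_right (Nat.add_le_add_right (Finset.le_sup hVs) N)) h2
    obtain ⟨w, hw⟩ := (exists_app_eq_iff (𝔞 ^ N) T.X₁ V.2 (κ.app V.1 m)).2 (by
      rw [Scheme.IdealSheafData.ideal_pow, Pi.pow_apply]
      exact hc V _ h1)
    show (cokernel.π (Dual3.idealMulι (𝔞 ^ N) T.X₁)).app V.1 (κ.app V.1 m) = 0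
    rw [← hw]
    show (Dual3.idealMulι (𝔞 ^ N) T.X₁ ≫ cokernel.π _).app V.1 w = 0
    rw [cokernel.condition]
    rfl
  let τ : S' ⟶ T :=
    { τ₁ := κ
      τ₂ := Dual3.idealMulι (𝔞 ^ M) T.X₂
      τ₃ := Dual3.idealMulι (𝔞 ^ M) T.X₃
      comm₁₂ := hκ
      comm₂₃ := hπ.symm }
  refine ⟨M, fun e x => ?_⟩
  haveI := hv e
  have hSe := hS'.map_of_exact (tw r e)
  have hTe := hT.map_of_exact (tw r e)
  have h0 : delta hTe q (hmap ((tw r e).map (Dual3.idealMulι (𝔞 ^ M) T.X₃)) q x) = 0 := by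
    refine (Groth.L16.Rees.delta_naturality hSe hTe ((tw r e).mapShortComplex.map τ) x).trans ?_
    show hmap ((tw r e).map κ) (q + 1) _ = 0
    rw [← Abelian.monoLift_comp (Dual3.idealMulι (𝔞 ^ N) T.X₁) κ hl, Functor.map_comp, hmap_comp]
    exact hN e _
  obtain ⟨y, hy⟩ := (exact_hmap_delta hTe q _).1 h0
  rw [← hy, @Subsingleton.elim _ (hv e) y 0, map_zero]

include hU hUa in
/-- High powers of `𝔞` kill the cohomology in degrees below the depth off `V(𝔞)`, uniformly in twists. -/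
theorem zt_of_deep : ∀ (c n : ℕ), r ≤ n + c → ∀ {F : (CohB1.ProjSpace r k).Modules}, Coh.IsCoh F →
    Deep U (n + 1) F → ∀ q, q ≤ n → ZT 𝔞 q F := by
  intro c
  induction c with
  | zero =>
    intro n hn F hF hd q _
    haveI := subsingleton_sections U hU hF fun p hp hpc =>
      le_trans (by exact_mod_cast Nat.succ_le_succ hn) (hd p hp hpc)
    exact zt_of_subsingleton 𝔞 U hU hUa hF q
  | succ c ih =>
    intro n hn F hF hd q hq
    by_cases hr : r ≤ n
    · exact ih n (le_trans hr (Nat.le_add_right _ _)) hF hd q hq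
    by_cases h1 : r = n + 1
    · subst h1
      haveI := projective_sections U hU hF hd
      exact zt_of_projective 𝔞 U hU hUa hF (Nat.lt_succ_of_le hq)
    haveI := isNoetherian_P (k := k) (r := r)
    obtain ⟨T, hT, rfl, h₂, hv⟩ := exists_presentation_tw hF
    have hK : Coh.IsCoh T.X₁ := Groth.L18.NegVanish.isCoh_kernel hT h₂ hF
    exact zt_step 𝔞 hT hK (Groth.L16.NegPow.isCoh_of_isFinLocFree h₂) hF (fun e => hv e q (by omega))
      (ih (n + 1) (by omega) hK (deep_left U hU hT h₂ (by omega) hd) (q + 1) (by omega))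

end Groth.L13.AlgzSec
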