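import Groth.Agent.L13.AlgzSec.Setup
import Groth.Agent.L13.AlgzSec.Uniform
import Groth.Agent.L18.OffAffineCoh

/-!
# Uniform pro-vanishing of the cohomology of negative twists below the depth

For a coherent `F` of depth `> n` at the closed points off `V(s)`: a fixed power of `s` is zero on
`H^q(L^(-d) ⊗ F)` for `q ≤ n` and all `d ≥ 0`.
-/

set_option autoImplicit false
set_option linter.style.haveILetI false
set_option linter.unusedSectionVars false
set_option backward.isDefEq.respectTransparency false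
set_option backward.isDefEq.respectTransparency.types false
universe u

open CategoryTheory CategoryTheory.Limits AlgebraicGeometry IsLocalRing TopologicalSpace Opposite

noncomputable section

namespace Groth.L13.AlgzSec

open Groth.L22.Reg (O' sm sm_comp sm_id sm_zero sm_map_zero)
open Groth.L16
open Groth.L16.CohLinear (hmap hmap_comp exact_hmap_hmap)
open Groth.L18.OffAffine (isNoetherian_P isAmple_O nonempty_O_pos isCoh_idealMod' Deep)
open Groth.L00.Tensor (tensorIso tensorComm tensorMap tensorAssoc tensorUnitRight)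
open Groth.L17.IdealMulSec (η)
open Groth.L20.SeeNormal (sI)

variable {k : Type u} [Field k] {X : Scheme.{u}}

/-- An embedding in projective space in which the locus of a section is cut out by an affine open. -/
theorem exists_affine_open_iso (f : X ⟶ Spec (CommRingCat.of k)) [IsProper f] {L : X.Modules}
    (hL : CohB1.IsAmple L) (s : Coh.structureModule X ⟶ L) :
    ∃ (N r : ℕ) (j : X ⟶ CohB1.ProjSpace r k) (U : (CohB1.ProjSpace r k).Opens),
      IsClosedImmersion j ∧ IsAffineOpen U ∧ j ⁻¹ᵁ U = CohB1.genLocus L s ∧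
      Nonempty (CohB1.tensorPow L (N + 1) ≅ (Scheme.Modules.pullback j).obj (O' r k 1)) := by
  obtain ⟨N, r, j, hN, hj, hjf, ⟨eL⟩⟩ := Groth.L18.NegVanish.exists_embedding f hL
  haveI := hj
  haveI := isNoetherian_P (k := k) (r := r)
  haveI := Groth.L22.PDual.proper r k
  let J := j.ker
  have hJ : Coh.IsCoh (ClSub.idealMod J) := isCoh_idealMod' _
  obtain ⟨m₀, hm₀⟩ := Groth.L22.PDual.exists_large_vanish (n := r) (k := k) hJ
  obtain ⟨N', rfl⟩ : ∃ N', N = N' + 1 := ⟨N - 1, by omega⟩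
  let M := m₀.toNat + 1
  let LP := O' r k (M : ℤ)
  have hLP : PicF.IsInvertible LP := ProjTwist.isInvertible_twistProjSpace r k _
  have hv : Subsingleton (Coh.HH (CohB1.ProjSpace r k) (CohB1.tensorMod LP (ClSub.idealMod J)) 1) :=
    Groth.L22.EnrSev.subsingleton_of_iso (tensorComm _ _) 1 (hm₀ (M : ℤ) (by omega)).1
  have hsurj := Groth.L18.CIProj.surjective_pull_subscheme J hLP hv
  obtain ⟨eM⟩ := nonempty_O_pos (k := k) r M
  let ι : CohB1.tensorPow (CohB1.tensorPow L (N' + 1)) M ≅ (Scheme.Modules.pullback j).obj LP :=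
    Groth.L00.Tensor.tensorPowIso eL M ≪≫ (Groth.L18.Ample.pullPow j _ M).symm ≪≫
      (Scheme.Modules.pullback j).mapIso eM
  let σ : Coh.structureModule X ⟶ (Scheme.Modules.pullback j).obj LP :=
    Groth.L18.Ample.pw (Groth.L18.Ample.pw s (N' + 1)) M ≫ ι.hom
  have hσ : CohB1.genLocus _ σ = CohB1.genLocus L s := by
    rw [Groth.L16.genLocus_comp_iso,
      Groth.L18.Ample.genLocus_pw_succ (Groth.L18.Ample.isInvertible_tensorPow hL.1 _),
      Groth.L18.Ample.genLocus_pw_succ hL.1]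
  let c : X ⟶ J.subscheme := j.toImage
  haveI : IsIso c := inferInstanceAs (IsIso j.toImage)
  have hc : c ≫ J.subschemeι = j := j.toImage_imageι
  let P' := (Scheme.Modules.pullback J.subschemeι).obj LP
  let σ' : Coh.structureModule J.subscheme ⟶ (Scheme.Modules.pullback (inv c)).obj
      ((Scheme.Modules.pullback j).obj LP) := Groth.L18.Ample.pullHom (inv c) σ
  let κ : (Scheme.Modules.pullback (inv c)).obj ((Scheme.Modules.pullback j).obj LP) ≅ P' :=
    (Scheme.Modules.pullbackComp (inv c) j).app LP ≪≫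
      (Scheme.Modules.pullbackCongr (by rw [← hc, IsIso.inv_hom_id_assoc])).app LP
  obtain ⟨t, ht⟩ := hsurj (Groth.L18.GenLoc.secOf (σ' ≫ κ.hom))
  let τ : Coh.structureModule (CohB1.ProjSpace r k) ⟶ LP := Groth.L16.homOfSection _ t
  refine ⟨N', r, j, CohB1.genLocus LP τ, hj,
    Groth.L19.AmpleAffine.isAffineOpen_genLocus (CohB1.ProjSpace.toSpec r k) (isAmple_O r (by omega)) τ, ?_, ⟨eL⟩⟩
  have hJτ : J.subschemeι ⁻¹ᵁ CohB1.genLocus LP τ = inv c ⁻¹ᵁ CohB1.genLocus L s := by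
    rw [← Groth.L18.Ample.genLocus_pullHom J.subschemeι hLP τ,
      show Groth.L18.Ample.pullHom J.subschemeι τ = σ' ≫ κ.hom from by
        rw [Groth.L18.Ample.pullHom, Groth.L18.GenLoc.secOf_homOfSection, ht,
          Groth.L18.GenLoc.homOfSection_secOf],
      Groth.L16.genLocus_comp_iso,
      Groth.L18.Ample.genLocus_pullHom (inv c) (Groth.L18.Ample.isInvertible_pullback j hLP) σ, hσ]
  rw [← hc, Scheme.Hom.comp_preimage, hJτ, ← Scheme.Hom.comp_preimage, IsIso.hom_inv_id]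
  rfl

/-- Stalks of a pushforward along a closed immersion, naturally. -/
theorem c₀_natural {Y : Scheme.{u}} (j : X ⟶ Y) [IsClosedImmersion j] {A B : X.Modules} (g : A ⟶ B) (x : X)
    (v : (Groth.L00.Stk.F Y (j x)).obj ((Scheme.Modules.pushforward j).obj A)) :
    Groth.L17.ClosedPush.c₀ j B x (sm (j x) ((Scheme.Modules.pushforward j).map g) v) =
      sm x g (Groth.L17.ClosedPush.c₀ j A x v) := by
  obtain ⟨V, hV, m, rfl⟩ :=
    Groth.L00.StalkTensor.exists_germ (Groth.L00.Tensor.pre ((Scheme.Modules.pushforward j).obj A)) (j x) v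
  refine (congrArg (Groth.L17.ClosedPush.c₀ j B x) (Groth.L17.ClosedPush.stk_map_germ _ (j x) hV m)).trans ?_
  rw [Groth.L17.ClosedPush.c₀_germ, Groth.L17.ClosedPush.c₀_germ]
  exact (Groth.L17.ClosedPush.stk_map_germ g x (U := j ⁻¹ᵁ V) hV m).symm

/-- The ideal kills the stalks of a pushforward from its closed subscheme. -/
theorem smul_push_subscheme {Y : Scheme.{u}} (J : Y.IdealSheafData) (M : J.subscheme.Modules) (p : Y)
    {c : Y.presheaf.stalk p} (hc : c ∈ sI J p)
    (v : (Groth.L00.Stk.F Y p).obj ((Scheme.Modules.pushforward J.subschemeι).obj M)) : c • v = 0 := by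
  by_cases hx : p ∈ Set.range J.subschemeι
  · obtain ⟨z, rfl⟩ := hx
    let E := Groth.L18.NegVanish.pushE J.subschemeι M z
    refine E.e.injective ((E.map_smul _ _).trans ?_)
    have h : E.φ c = 0 := by
      show c ∈ RingHom.ker (J.subschemeι.stalkMap z).hom
      rw [Groth.L20.Infinitesimal.ker_stalkMap J.subschemeι z, Scheme.IdealSheafData.ker_subschemeι]
      exact hc
    exact (congrArg (· • E.e v) h).trans ((zero_smul _ _).trans (map_zero E.e).symm)
  · haveI : Subsingleton ((Groth.L00.Stk.F Y p).obj ((Scheme.Modules.pushforward J.subschemeι).obj M)) :=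
      Groth.L17.ClosedPush.subsingleton_stalk_push J.subschemeι M hx
    exact Subsingleton.elim _ _

/-- A twist keeps the multiplication by the elements which kill. -/
theorem smul_tw {r : ℕ} (e : ℕ) (Q : (CohB1.ProjSpace r k).Modules) (p : CohB1.ProjSpace r k)
    {c : (CohB1.ProjSpace r k).presheaf.stalk p}
    (h : ∀ v : (Groth.L00.Stk.F _ p).obj Q, c • v = 0) (v : (Groth.L00.Stk.F _ p).obj ((tw r e).obj Q)) :
    c • v = 0 := by
  have hO := ProjTwist.isInvertible_twistProjSpace r k (-(e : ℤ))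
  obtain ⟨W, a, hpW, ha⟩ := Groth.L18.Frame.exists_frame hO p
  let ε := Groth.L18.LefTower.tensE p _ _ (Groth.L03.Euler.bijective_toSpanSingleton_germ ha hpW) Q
  let γ := ((Groth.L00.Stk.F _ p).mapIso (tensorComm (O' r k (-(e : ℤ))) Q)).toLinearEquiv
  obtain ⟨w, rfl⟩ := (ε ≪≫ₗ γ).surjective v
  exact ((ε ≪≫ₗ γ).map_smul c w).symm.trans ((congrArg (ε ≪≫ₗ γ) (h w)).trans (map_zero _))

namespace Sec

variable {I : X.IdealSheafData} (S : Sec I)

/-- `H^q` is killed by the `c`-th power of the section. -/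
def Kill (c q : ℕ) (H : X.Modules) : Prop := ∀ x : Coh.HH X ((S.Pw c).obj H) q, hmap (S.μ c H) q x = 0

theorem Kill.of_iso {c q : ℕ} {H H' : X.Modules} (e : H ≅ H') (h : S.Kill c q H) : S.Kill c q H' := fun x => by
  rw [show x = hmap ((S.Pw c).map e.hom) q (hmap ((S.Pw c).map e.inv) q x) from by
      rw [← hmap_comp, ← Functor.map_comp, e.inv_hom_id, CategoryTheory.Functor.map_id, CohLinear.hmap_id],
    ← hmap_comp, S.μ_natural, hmap_comp, h, map_zero]

theorem Kill.mono {c q : ℕ} {H : X.Modules} (h : S.Kill c q H) (d : ℕ) : S.Kill (d + c) q H := fun x => by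
  obtain ⟨e, he⟩ := S.μ_add d c H
  rw [← he, ← Category.assoc, hmap_comp]
  exact h _

/-- A power of `L` against a twist. -/
theorem nonempty_Pw_mul (F : X.Modules) {N : ℕ} {W : ℕ → X.Modules}
    (hW0 : Nonempty (W 0 ≅ Coh.structureModule X))
    (hW1 : Nonempty (CohB1.tensorMod (CohB1.tensorPow S.L N) (W 1) ≅ Coh.structureModule X))
    (hW : ∀ e, Nonempty (CohB1.tensorMod (W e) (W 1) ≅ W (e + 1))) :
    ∀ e, Nonempty ((S.Pw (e * N)).obj F ≅ CohB1.tensorMod F (W e))
  | 0 => by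
    obtain ⟨w⟩ := hW0
    rw [Nat.zero_mul]
    exact ⟨(tensorIso (Iso.refl F) w ≪≫ tensorUnitRight F).symm⟩
  | e + 1 => by
    obtain ⟨a⟩ := nonempty_Pw_mul F hW0 hW1 hW e
    obtain ⟨b⟩ := S.nonempty_Pw_twist F N (e * N)
    obtain ⟨w⟩ := hW e
    obtain ⟨w₁⟩ := hW1
    rw [Nat.succ_mul]
    exact ⟨(tensorUnitRight _).symm ≪≫ tensorIso (Iso.refl _) w₁.symm ≪≫ (tensorAssoc _ _ _).symm ≪≫
      tensorIso b (Iso.refl _) ≪≫ tensorIso a (Iso.refl _) ≪≫ tensorAssoc _ _ _ ≪≫ tensorIso (Iso.refl F) w⟩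

theorem depth_Pw (a : ℕ) (F : X.Modules) (x : X) :
    LocCoh.depth (X.presheaf.stalk x) (((S.Pw a).obj F).presheaf.stalk x) =
      LocCoh.depth (X.presheaf.stalk x) (F.presheaf.stalk x) := by
  obtain ⟨β, -⟩ := S.exists_equiv_μ_eq_zero x a
  exact (L02.FibDepth.Semi.depth_eq
    { φ := RingHom.id _
      surj := Function.surjective_id
      e := (β F).toAddEquiv
      map_smul := fun r z => (β F).map_smul r z }).symm

end Sec

/-- Below the depth off `V(s)` a fixed power of `s` is zero on the cohomology of all negative twists. -/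
theorem exists_kill_uniform (f : X ⟶ Spec (CommRingCat.of k)) [IsProper f] {L : X.Modules} (hL : CohB1.IsAmple L)
    (s : Coh.structureModule X ⟶ L) (S : Sec (PicF2.zeroScheme L s)) (hSL : S.L = L) {F : X.Modules}
    (hF : Coh.IsCoh F) (n : ℕ)
    (hd : ∀ x : X, IsClosed ({x} : Set X) → x ∉ (PicF2.zeroScheme L s).support →
      ((n + 1 : ℕ) : ℕ∞) ≤ LocCoh.depth (X.presheaf.stalk x) (F.presheaf.stalk x)) :
    ∃ c : ℕ, ∀ d q : ℕ, q ≤ n → S.Kill c q ((S.Pw d).obj F) := by
  classical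
  let I := PicF2.zeroScheme L s
  obtain ⟨N, r, j, U, hj, hU, hjU, ⟨eL⟩⟩ := exists_affine_open_iso f hL s
  haveI := hj
  haveI := isNoetherian_P (k := k) (r := r)
  haveI : IsLocallyNoetherian X := LocallyOfFiniteType.isLocallyNoetherian f
  haveI : CompactSpace X := QuasiCompact.compactSpace_of_compactSpace f
  haveI : IsNoetherian X := {}
  let P := CohB1.ProjSpace r k
  let 𝔞 : P.IdealSheafData := Scheme.IdealSheafData.vanishingIdeal ⟨(U : Set P)ᶜ, U.2.isClosed_compl⟩
  have hUa : (U : Set P) = (𝔞.support : Set P)ᶜ := by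
    rw [Scheme.IdealSheafData.coe_support_vanishingIdeal]
    exact (compl_compl _).symm
  have hsupp : ∀ x : X, x ∈ I.support ↔ j x ∉ U := fun x => by
    have h : x ∈ I.support ↔ x ∈ (CohB1.genLocus L s : Set X)ᶜ :=
      Set.ext_iff.1 (Groth.L22.ZeroScheme.support_zeroScheme hL.1 s) x
    rw [h, Set.mem_compl_iff, SetLike.mem_coe, ← hjU]
    rfl
  let Fa : ℕ → P.Modules := fun a => (Coh.push j).obj ((S.Pw a).obj F)
  have hFa : ∀ a, Coh.IsCoh (Fa a) := fun a => Groth.L16.CohClosedPush.isCoh_push j (S.isCoh_Pw a hF)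
  have hdeep : ∀ a, Deep U (n + 1) (Fa a) := by
    intro a p hp hpc
    rw [← Groth.L18.NegVanish.sdep_field (CohB1.ProjSpace.toSpec r k) (Fa a) p]
    by_cases hr : p ∈ Set.range j
    · obtain ⟨x, rfl⟩ := hr
      have hx : IsClosed ({x} : Set X) := by
        rw [show ({x} : Set X) = j ⁻¹' {j x} from Set.ext fun y =>
          ⟨fun e => congrArg _ e, fun e => j.isClosedEmbedding.injective e⟩]
        exact hpc.preimage j.continuous
      refine (hd x hx (fun h => (hsupp x).1 h hp)).trans_eq ?_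
      refine ((Groth.L18.NegVanish.sdep_push j (CohB1.ProjSpace.toSpec r k) _ x).trans ?_).symm
      rw [Groth.L18.NegVanish.sdep_field]
      exact S.depth_Pw a F x
    · exact le_top.trans_eq (Groth.L18.NegVanish.sdep_push_of_not_mem j _ _ hr).symm
  choose M hM using fun (aq : ℕ × ℕ) (h : aq.2 ≤ n) =>
    zt_of_deep 𝔞 U hU hUa r n (Nat.le_add_left r n) (hFa aq.1) (hdeep aq.1) aq.2 h
  have hC : ∀ m : ℕ, ∃ C, I ^ (C + 1) ≤ (𝔞 ^ m).comap j := fun m =>
    Groth.Agent.S3852.result X I _ fun x hx => by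
      rw [Scheme.IdealSheafData.support_comap] at hx
      rcases Nat.eq_zero_or_pos m with rfl | hm
      · simp at hx
      · rw [Scheme.IdealSheafData.support_pow _ _ hm.ne'] at hx
        exact (hsupp x).2 fun h => (Set.ext_iff.1 hUa (j x)).1 h hx
  choose C hC' using hC
  let c₀ : ℕ × ℕ → ℕ := fun aq => if h : aq.2 ≤ n then C (M aq h) + 1 else 0
  let T := Finset.range (N + 1) ×ˢ Finset.range (n + 1)
  refine ⟨T.sup c₀, fun d q hq => ?_⟩
  let a := d % (N + 1)
  let e := d / (N + 1)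
  have hmem : (a, q) ∈ T :=
    Finset.mem_product.2 ⟨Finset.mem_range.2 (Nat.mod_lt _ (Nat.succ_pos N)), Finset.mem_range.2 (by omega)⟩
  obtain ⟨δ, hδ⟩ := Nat.exists_eq_add_of_le (Finset.le_sup (f := c₀) hmem)
  rw [hδ, add_comm]
  refine Sec.Kill.mono S ?_ δ
  rw [show c₀ (a, q) = C (M (a, q) hq) + 1 from dif_pos hq]
  let m := M (a, q) hq
  let c := C m + 1
  -- the twist on `X`
  let W : ℕ → X.Modules := fun e => (Scheme.Modules.pullback j).obj (O' r k (-(e : ℤ)))
  have hW0 : Nonempty (W 0 ≅ Coh.structureModule X) := by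
    obtain ⟨z⟩ := Groth.L22.Reg.nonempty_O_zero r k
    exact ⟨(Scheme.Modules.pullback j).mapIso (eqToIso (congrArg (O' r k) (show -((0 : ℕ) : ℤ) = 0 by omega)) ≪≫ z)
      ≪≫ Groth.L29.LocFree.pullbackUnitIso j⟩
  have hW1 : Nonempty (CohB1.tensorMod (CohB1.tensorPow S.L (N + 1)) (W 1) ≅ Coh.structureModule X) := by
    obtain ⟨z⟩ := Groth.L22.Reg.nonempty_O_zero r k
    obtain ⟨y⟩ := Groth.L22.Reg.nonempty_O_add (n := r) (R := k) (show (1 : ℤ) + -((1 : ℕ) : ℤ) = 0 by omega)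
    rw [hSL]
    exact ⟨tensorIso eL (Iso.refl _) ≪≫ Groth.L29.DC.PullTensor.pullTensor j _ _ ≪≫
      (Scheme.Modules.pullback j).mapIso (y ≪≫ z) ≪≫ Groth.L29.LocFree.pullbackUnitIso j⟩
  have hW : ∀ e, Nonempty (CohB1.tensorMod (W e) (W 1) ≅ W (e + 1)) := fun e => by
    obtain ⟨y⟩ := Groth.L22.Reg.nonempty_O_add (n := r) (R := k)
      (show -(e : ℤ) + -((1 : ℕ) : ℤ) = -((e + 1 : ℕ) : ℤ) by omega)
    exact ⟨Groth.L29.DC.PullTensor.pullTensor j _ _ ≪≫ (Scheme.Modules.pullback j).mapIso y⟩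
  obtain ⟨w⟩ := S.nonempty_Pw_mul ((S.Pw a).obj F) hW0 hW1 hW e
  obtain ⟨g⟩ : Nonempty ((S.Pw d).obj F ≅ (S.Pw (e * (N + 1))).obj ((S.Pw a).obj F)) := by
    obtain ⟨g, -⟩ := S.μ_add (e * (N + 1)) a F
    rw [show e * (N + 1) + a = d from Nat.div_add_mod' d (N + 1)] at g
    exact ⟨g⟩
  let G := (S.Pw d).obj F
  let OT := O' r k (-(e : ℤ))
  let ε : (tw r e).obj (Fa a) ≅ (Coh.push j).obj G := tensorComm _ _ ≪≫
    (Groth.L17.ProjFormula.projIso j OT (Groth.L20.ResDescent.isFinLocFree_of_isInvertible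
      (ProjTwist.isInvertible_twistProjSpace r k _))).app _ ≪≫
    (Coh.push j).mapIso (tensorComm _ _ ≪≫ (g ≪≫ w).symm)
  let Q := (Scheme.Modules.pullback (𝔞 ^ m).subschemeι ⋙ Scheme.Modules.pushforward (𝔞 ^ m).subschemeι).obj (Fa a)
  let Sh := ShortComplex.mk (Dual3.idealMulι (𝔞 ^ m) (Fa a)) (η (𝔞 ^ m) (Fa a)) (kernel.condition _)
  haveI : Coh.IsQCoh (Fa a) := (hFa a).1
  have hSh : Sh.ShortExact := Groth.L18.OffAffine.shortExact_idealMul _ _
  have hSe := hSh.map_of_exact (tw r e)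
  let φ := (Coh.push j).map (S.μ c G) ≫ ε.inv
  have hφ : φ ≫ (tw r e).map (η (𝔞 ^ m) (Fa a)) = 0 := by
    refine Groth.L21.Mod.hom_ext_stalk fun p => ?_
    ext v
    show sm p (φ ≫ _) v = sm p (0 : _ ⟶ (tw r e).obj Q) v
    rw [sm_comp, sm_zero]
    by_cases hp : p ∈ Set.range j
    · obtain ⟨x, rfl⟩ := hp
      obtain ⟨t, ht⟩ := S.exists_gen x
      let E := Groth.L18.NegVanish.pushE j G x
      obtain ⟨z, hz⟩ := (S.exists_μ_eq_iff x ht c G (E.e (sm (j x) ((Coh.push j).map (S.μ c G)) v))).1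
        ⟨_, (c₀_natural j (S.μ c G) x v).symm⟩
      have hmem : t ^ c ∈ sI ((𝔞 ^ m).comap j) x := by
        have h1 : sI (I ^ c) x = Ideal.span {t ^ c} := by
          rw [Groth.L20.Infinitesimal.sI_pow, ht, Ideal.span_singleton_pow]
        have h2 : sI (I ^ c) x ≤ sI ((𝔞 ^ m).comap j) x := by
          obtain ⟨V, hV, hxV, -⟩ := exists_isAffineOpen_mem_and_subset (x := x) (U := ⊤) trivial
          rw [Groth.L20.SeeNormal.sI_eq _ ⟨V, hV⟩ hxV, Groth.L20.SeeNormal.sI_eq _ ⟨V, hV⟩ hxV]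
          exact Ideal.map_mono (hC' m ⟨V, hV⟩)
        exact h2 (h1 ▸ Ideal.mem_span_singleton_self _)
      rw [Groth.L20.SeeNormal.sI_comap] at hmem
      obtain ⟨c', hc', hc''⟩ := (Ideal.mem_map_iff_of_surjective _ (j.stalkMap_surjective x)).1 hmem
      obtain ⟨y, hy⟩ := E.e.surjective z
      have hv : sm (j x) ((Coh.push j).map (S.μ c G)) v = c' • y := by
        refine E.e.injective (hz.symm.trans ?_)
        rw [E.map_smul, hy]
        exact congrArg (· • z) hc''.symm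
      show sm (j x) ((tw r e).map _) (sm (j x) ((Coh.push j).map (S.μ c G) ≫ ε.inv) v) = 0
      rw [sm_comp, hv, Groth.L18.LefTower.sm_smul, Groth.L18.LefTower.sm_smul]
      exact smul_tw e Q (j x) (fun w => smul_push_subscheme (𝔞 ^ m) _ (j x) hc' w) _
    · haveI : Subsingleton ((Groth.L00.Stk.F P p).obj ((Coh.push j).obj ((S.Pw c).obj G))) :=
        Groth.L17.ClosedPush.subsingleton_stalk_push j _ hp
      rw [show v = 0 from @Subsingleton.elim ((Groth.L00.Stk.F P p).obj ((Coh.push j).obj ((S.Pw c).obj G))) _ v 0, sm_map_zero]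
      exact sm_map_zero p _
  haveI := hSe.mono_f
  let l := hSe.exact.lift φ hφ
  have hl : l ≫ (tw r e).map (Dual3.idealMulι (𝔞 ^ m) (Fa a)) = φ := hSe.exact.lift_f φ hφ
  obtain ⟨E, hE⟩ := Groth.L16.Supp.exists_natural j q
  intro x
  obtain ⟨y, rfl⟩ := (E _).surjective x
  rw [← hE (S.μ c G) y, show (Coh.push j).map (S.μ c G) = φ ≫ ε.hom by simp [φ], ← hl, hmap_comp, hmap_comp]
  exact (congrArg (fun z => E G (hmap ε.hom q z)) (hM (a, q) hq e _)).trans (by rw [map_zero, map_zero])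

end Groth.L13.AlgzSec
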