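import Groth.Agent.L13.AlgzSec.Sys
import Groth.Agent.L13.AlgzSec.UniformX

/-!
# Killing the cohomology of negative twists of bundles on the thickenings modulo torsion
-/

set_option autoImplicit false
set_option linter.style.haveILetI false
set_option linter.unusedSectionVars false
set_option backward.isDefEq.respectTransparency false
set_option backward.isDefEq.respectTransparency.types false
universe u

open CategoryTheory CategoryTheory.Limits AlgebraicGeometry Opposite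

noncomputable section

namespace Groth.L13.AlgzSec

open Groth.L00.Tensor (tensorMap tensorIso tensorComm tensorAssoc tensorUnitLeft tensorUnitRight tensorLeftF tensorRightF)
open Groth.L16.CohLinear (hmap hmap_comp exact_hmap_hmap exact_hmap_delta exact_delta_hmap delta)
open Groth.L22.Reg (sm sm_comp sm_id sm_map_sub sm_map_zero sm_zero sm_map_add)
open Groth.L18.LefTower (sm_smul surjective_sm injective_sm epi_of_sm mono_of_sm exists_kernel_preimage)
open Groth.L20.SeeNormal (sI)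

variable {X : Scheme.{u}} {I : X.IdealSheafData}

/-- Injectivity on global cohomology of a monomorphism. -/
theorem hmap_zero_injective {A B : X.Modules} (f : A ⟶ B) [Mono f] : Function.Injective (hmap f 0) := fun a b h => by
  refine (Groth.L16.HomSh.h0Equiv A).injective (Groth.L16.Acc.app_injective f ⊤ ?_)
  exact (Groth.L16.HomSh.h0Equiv_map f a).symm.trans
    ((congrArg (Groth.L16.HomSh.h0Equiv B) h).trans (Groth.L16.HomSh.h0Equiv_map f b))

namespace Sec

variable (S : Sec I)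

theorem Kill.comp {a b q : ℕ} {H : X.Modules}
    (h : ∀ x : Coh.HH X ((S.Pw a).obj ((S.Pw b).obj H)) q, hmap (S.μ b H) q (hmap (S.μ a _) q x) = 0) :
    S.Kill (a + b) q H := fun x => by
  obtain ⟨e, he⟩ := S.μ_add a b H
  rw [← he, hmap_comp, hmap_comp]
  exact h _

/-- Quotients. -/
theorem Kill.quot {T : ShortComplex X.Modules} (hT : T.ShortExact) {a b q : ℕ} (h₂ : S.Kill b q T.X₂)
    (h₁ : S.Kill a (q + 1) ((S.Pw b).obj T.X₁)) : S.Kill (a + b) q T.X₃ := by
  refine Kill.comp S fun x => ?_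
  have hTb := hT.map_of_exact (S.Pw b)
  have hTa := hTb.map_of_exact (S.Pw a)
  let τa : (T.map (S.Pw b)).map (S.Pw a) ⟶ T.map (S.Pw b) :=
    { τ₁ := S.μ a _, τ₂ := S.μ a _, τ₃ := S.μ a _
      comm₁₂ := (S.μ_natural a _).symm, comm₂₃ := (S.μ_natural a _).symm }
  have h0 : delta hTb q (hmap (S.μ a ((S.Pw b).obj T.X₃)) q x) = 0 :=
    (Groth.L16.Rees.delta_naturality hTa hTb τa x).trans (h₁ _)
  obtain ⟨y, hy⟩ := (exact_hmap_delta hTb q _).1 h0
  rw [← hy]
  show hmap (S.μ b T.X₃) q (hmap ((S.Pw b).map T.g) q y) = 0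
  rw [← hmap_comp, S.μ_natural, hmap_comp, h₂, map_zero]

/-- Submodules. -/
theorem Kill.sub {T : ShortComplex X.Modules} (hT : T.ShortExact) {a b q : ℕ}
    (h₂ : S.Kill a (q + 1) ((S.Pw b).obj T.X₂)) (h₃ : S.Kill b q T.X₃) : S.Kill (a + b) (q + 1) T.X₁ := by
  refine Kill.comp S fun x => ?_
  have hTb := hT.map_of_exact (S.Pw b)
  let τb : T.map (S.Pw b) ⟶ T :=
    { τ₁ := S.μ b _, τ₂ := S.μ b _, τ₃ := S.μ b _
      comm₁₂ := (S.μ_natural b _).symm, comm₂₃ := (S.μ_natural b _).symm }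
  have h0 : hmap ((S.Pw b).map T.f) (q + 1) (hmap (S.μ a ((S.Pw b).obj T.X₁)) (q + 1) x) = 0 := by
    rw [← hmap_comp, ← S.μ_natural, hmap_comp]
    exact h₂ _
  obtain ⟨w, hw⟩ := (exact_delta_hmap hTb q _).1 h0
  rw [← hw]
  have h1 : delta hT q (hmap τb.τ₃ q w) = hmap τb.τ₁ (q + 1) (delta hTb q w) :=
    Groth.L16.Rees.delta_naturality hTb hT τb w
  refine h1.symm.trans ?_
  show delta hT q (hmap (S.μ b T.X₃) q w) = 0
  rw [h₃ w, map_zero]

/-- Submodules in degree zero. -/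
theorem Kill.sub_zero {A B : X.Modules} (f : A ⟶ B) [Mono f] {c : ℕ} (h : S.Kill c 0 B) : S.Kill c 0 A := fun x => by
  refine hmap_zero_injective f ?_
  rw [map_zero, ← hmap_comp, ← S.μ_natural, hmap_comp, h]

/-- All twists from `t` on. -/
def KillFrom (c q t : ℕ) (F : X.Modules) : Prop := ∀ d, t ≤ d → S.Kill c q ((S.Pw d).obj F)

theorem KillFrom.mono {c q t c' t' : ℕ} {F : X.Modules} (h : S.KillFrom c q t F) (hc : c ≤ c') (ht : t ≤ t') :
    S.KillFrom c' q t' F := fun d hd => by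
  obtain ⟨δ, rfl⟩ := Nat.exists_eq_add_of_le hc
  rw [add_comm]
  exact Kill.mono S (h d (ht.trans hd)) δ

theorem KillFrom.of_iso {c q t : ℕ} {F F' : X.Modules} (e : F ≅ F') (h : S.KillFrom c q t F) :
    S.KillFrom c q t F' := fun d hd => Kill.of_iso S ((S.Pw d).mapIso e) (h d hd)

theorem KillFrom.shift {c q t : ℕ} {F : X.Modules} (h : S.KillFrom c q t F) (b d : ℕ) (hd : t ≤ d) :
    S.Kill c q ((S.Pw b).obj ((S.Pw d).obj F)) := by
  obtain ⟨e, -⟩ := S.μ_add b d F
  exact Kill.of_iso S e (h _ (le_add_left hd))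

theorem KillFrom.pw {c q t : ℕ} {F : X.Modules} (h : S.KillFrom c q t F) (l : ℕ) :
    S.KillFrom c q t ((S.Pw l).obj F) := fun d hd => by
  obtain ⟨e, -⟩ := S.μ_add d l F
  exact Kill.of_iso S e (h _ (le_add_right hd))

theorem KillFrom.quot {T : ShortComplex X.Modules} (hT : T.ShortExact) {a b q t : ℕ}
    (h₂ : S.KillFrom b q t T.X₂) (h₁ : S.KillFrom a (q + 1) t T.X₁) : S.KillFrom (a + b) q t T.X₃ :=
  fun d hd => Kill.quot S (hT.map_of_exact (S.Pw d)) (h₂ d hd) (h₁.shift S b d hd)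

theorem KillFrom.sub {T : ShortComplex X.Modules} (hT : T.ShortExact) {a b q t : ℕ}
    (h₂ : S.KillFrom a (q + 1) t T.X₂) (h₃ : S.KillFrom b q t T.X₃) : S.KillFrom (a + b) (q + 1) t T.X₁ :=
  fun d hd => Kill.sub S (hT.map_of_exact (S.Pw d)) (h₂.shift S b d hd) (h₃ d hd)

theorem KillFrom.sub_zero {A B : X.Modules} (f : A ⟶ B) [Mono f] {c t : ℕ} (h : S.KillFrom c 0 t B) :
    S.KillFrom c 0 t A := fun d hd => Kill.sub_zero S ((S.Pw d).map f) (h d hd)

/-- Finite sums. -/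
theorem Kill.sigma {m c q : ℕ} {F : Fin m → X.Modules} (h : ∀ j, S.Kill c q (F j)) : S.Kill c q (∐ F) := by
  classical
  intro x
  let p : ∀ j, ∐ F ⟶ F j := fun j => Sigma.desc fun i => if e : i = j then eqToHom (congrArg F e) else 0
  have hid : 𝟙 (∐ F) = ∑ j, p j ≫ Sigma.ι F j := by
    refine Sigma.hom_ext _ _ fun i => ?_
    rw [Category.comp_id, Preadditive.comp_sum, Finset.sum_eq_single i]
    · simp [p]
    · intro j _ hj
      simp [p, Ne.symm hj]
    · exact fun hi => absurd (Finset.mem_univ i) hi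
  have hj : ∀ j, hmap (p j ≫ Sigma.ι F j) q (hmap (S.μ c (∐ F)) q x) = 0 := fun j => by
    rw [hmap_comp]
    refine (congrArg (hmap (Sigma.ι F j) q) ?_).trans (map_zero _)
    rw [← hmap_comp, ← S.μ_natural, hmap_comp]
    exact h j _
  rw [← Groth.L16.CohLinear.hmap_id q (hmap (S.μ c (∐ F)) q x), hid]
  change Sheaf.H.map (Groth.L16.CohLinear.tm (∑ j, p j ≫ Sigma.ι F j)) q _ = 0
  rw [Groth.L16.CohLinear.tm, Functor.map_sum, Groth.L16.CohLinear.hMap_sum]
  exact Finset.sum_eq_zero fun j _ => hj j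

/-- Tensoring on the right commutes with the powers. -/
theorem nonempty_Pw_tensor (G W : X.Modules) : ∀ d,
    Nonempty ((S.Pw d).obj (CohB1.tensorMod G W) ≅ CohB1.tensorMod ((S.Pw d).obj G) W)
  | 0 => ⟨Iso.refl _⟩
  | d + 1 => by
    obtain ⟨e⟩ := nonempty_Pw_tensor G W d
    exact ⟨(tensorLeftF S.M).mapIso e ≪≫ (tensorAssoc S.M ((S.Pw d).obj G) W).symm⟩

theorem KillFrom.twist {c q t : ℕ} {F : X.Modules} (h : S.KillFrom c q t F) (e : ℕ) :
    S.KillFrom c q (t + e) (CohB1.tensorMod F (CohB1.tensorPow S.L e)) := fun d hd => by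
  obtain ⟨d', rfl⟩ := Nat.exists_eq_add_of_le (show e ≤ d by omega)
  obtain ⟨a⟩ := S.nonempty_Pw_tensor F (CohB1.tensorPow S.L e) (e + d')
  obtain ⟨b⟩ := S.nonempty_Pw_twist F e d'
  rw [add_comm e d'] at a ⊢
  exact Kill.of_iso S (a ≪≫ b).symm (h d' (by omega))

theorem KillFrom.freeTensor {c q t : ℕ} {F : X.Modules} (h : S.KillFrom c q t F) (k : ℕ) :
    S.KillFrom c q t (CohB1.tensorMod (FlatMod.freeMod X k) F) := fun d hd => by
  let Z : Fin k → X.Modules := fun _ => Coh.structureModule X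
  let e₁ : CohB1.tensorMod (FlatMod.freeMod X k) F ≅ ∐ fun j => CohB1.tensorMod (Z j) F :=
    (PreservesCoproduct.iso (tensorRightF F) Z)
  let e₂ := (S.Pw d).mapIso e₁ ≪≫ PreservesCoproduct.iso (S.Pw d) (fun j => CohB1.tensorMod (Z j) F)
  exact Kill.of_iso S e₂.symm (Kill.sigma S fun j => Kill.of_iso S ((S.Pw d).mapIso (tensorUnitLeft F).symm) (h d hd))

end Sec

end Groth.L13.AlgzSec
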