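import Groth.Agent.L13.AlgzSec.Red
import Groth.Agent.L13.AlgzSec.Dual

/-!
# Killing on the levels of a system of bundles
-/

set_option autoImplicit false
set_option linter.style.haveILetI false
set_option linter.unusedSectionVars false
set_option backward.isDefEq.respectTransparency false
set_option backward.isDefEq.respectTransparency.types false
universe u

open CategoryTheory CategoryTheory.Limits AlgebraicGeometry Opposite

noncomputable section

namespace Groth.L13.AlgzSec

open Groth.L00.Tensor (tensorMap tensorIso tensorComm tensorAssoc tensorUnitLeft tensorUnitRight tensorLeftF tensorRightF)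
open Groth.L22.Reg (sm sm_comp sm_id sm_map_sub sm_map_zero sm_zero sm_map_add)
open Groth.L18.LefTower (sm_smul surjective_sm injective_sm epi_of_sm mono_of_sm exists_kernel_preimage exists_preimage_of_sm_eq_zero)
open Groth.L20.SeeNormal (sI)
open Groth.L17.IdealMulSec (η)

variable {X : Scheme.{u}} {I : X.IdealSheafData}

theorem IsRed.comp_iso {l : ℕ} {E P P' : X.Modules} {π : E ⟶ P} (h : IsRed I l π) (e : P ≅ P') :
    IsRed I l (π ≫ e.hom) := by
  have hs : ∀ x v, sm x e.inv (sm x e.hom v) = v := fun x v => by rw [← sm_comp, e.hom_inv_id, sm_id]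
  have hs' : ∀ x v, sm x e.hom (sm x e.inv v) = v := fun x v => by rw [← sm_comp, e.inv_hom_id, sm_id]
  refine ⟨fun x v => ?_, fun x t ht v => ?_⟩
  · obtain ⟨w, hw⟩ := h.1 x (sm x e.inv v)
    exact ⟨w, by rw [sm_comp, hw, hs']⟩
  · rw [sm_comp, ← h.2 x t ht v]
    exact ⟨fun h0 => by rw [← hs x (sm x π v), h0, sm_map_zero], fun h0 => by rw [h0, sm_map_zero]⟩

/-- An exact sequence of bundles on a thickening, pushed forward. -/
theorem shortExact_push {Z : Scheme.{u}} (j : Z ⟶ X) [IsClosedImmersion j] {T : ShortComplex Z.Modules}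
    (hT : T.ShortExact) : (T.map (Scheme.Modules.pushforward j)).ShortExact := by
  haveI := hT.mono_f
  haveI := hT.epi_g
  haveI : Mono (T.map (Scheme.Modules.pushforward j)).f :=
    inferInstanceAs (Mono ((Scheme.Modules.pushforward j).map T.f))
  haveI : Epi (T.map (Scheme.Modules.pushforward j)).g := by
    refine epi_of_sm _ fun p w => ?_
    by_cases hp : p ∈ Set.range j
    · obtain ⟨z, rfl⟩ := hp
      obtain ⟨v, hv⟩ := surjective_sm T.g z (Groth.L17.ClosedPush.c₀ j T.X₃ z w)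
      obtain ⟨v', rfl⟩ := (Groth.L17.ClosedPush.c₀_bijective j T.X₂ z).2 v
      exact ⟨v', (Groth.L17.ClosedPush.c₀_bijective j T.X₃ z).1 ((c₀_natural j T.g z v').trans hv)⟩
    · haveI : Subsingleton ((Groth.L00.Stk.F X p).obj ((Scheme.Modules.pushforward j).obj T.X₃)) :=
        Groth.L17.ClosedPush.subsingleton_stalk_push j _ hp
      exact ⟨0, @Subsingleton.elim ((Groth.L00.Stk.F X p).obj ((Scheme.Modules.pushforward j).obj T.X₃)) _ _ _⟩
  exact { exact := hT.exact.map_of_mono_of_preservesKernel _ ‹_› inferInstance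
          mono_f := ‹_›
          epi_g := ‹_› }

variable (I) in
/-- A module is a bundle on a thickening. -/
def IsLevel (n : ℕ) (G : X.Modules) : Prop :=
  ∃ V : (I ^ n).subscheme.Modules, FlatMod.IsFinLocFree V ∧
    Nonempty (G ≅ (Scheme.Modules.pushforward (I ^ n).subschemeι).obj V)

variable [IsNoetherian X] (Q : Sec.TF (I := I)) (hgen : ∀ x, ∃ t, sI I x = Ideal.span {t})

/-- Bundles on a thickening embed in reductions of sums of twists, also modulo torsion. -/
theorem exists_level_embed {L L' : X.Modules} (hL : CohB1.IsAmple L)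
    (i : CohB1.tensorMod L L' ≅ Coh.structureModule X) (n : ℕ) {G : X.Modules} (hG : IsLevel I n G) :
    ∃ (e k : ℕ) (P G'' : X.Modules) (f : G ⟶ P) (g : P ⟶ G'') (w : f ≫ g = 0)
      (π : CohB1.tensorMod (FlatMod.freeMod X k) (CohB1.tensorPow L e) ⟶ P),
      IsRed I n π ∧ IsLevel I n P ∧ IsLevel I n G'' ∧ (ShortComplex.mk f g w).ShortExact := by
  obtain ⟨V, hV, ⟨a⟩⟩ := hG
  let j := (I ^ n).subschemeι
  haveI : IsLocallyNoetherian (I ^ n).subscheme := LocallyOfFiniteType.isLocallyNoetherian j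
  haveI : CompactSpace (I ^ n).subscheme := QuasiCompact.compactSpace_of_compactSpace j
  haveI : IsNoetherian (I ^ n).subscheme := {}
  let Lj := (Scheme.Modules.pullback j).obj L
  let iY : CohB1.tensorMod Lj ((Scheme.Modules.pullback j).obj L') ≅ Coh.structureModule _ :=
    Groth.L29.DC.PullTensor.pullTensor j _ _ ≪≫ (Scheme.Modules.pullback j).mapIso i ≪≫
      Groth.L29.LocFree.pullbackUnitIso j
  obtain ⟨e, k, T, hT, ⟨t₁⟩, ⟨t₂⟩, h₂, h₃⟩ :=
    exists_embed (Groth.L18.Ample.isAmple_pullback_of_isAffineHom j hL) iY hV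
  let E := CohB1.tensorMod (FlatMod.freeMod X k) (CohB1.tensorPow L e)
  have hE : FlatMod.IsFinLocFree E :=
    Groth.L16.NegPow.isFinLocFree_freeTensor (Groth.L18.Ample.isInvertible_tensorPow hL.1 e) k
  haveI : Coh.IsQCoh E := (Groth.L16.NegPow.isCoh_of_isFinLocFree hE).1
  let t : (Scheme.Modules.pullback j).obj E ≅ T.X₂ :=
    (Groth.L29.DC.PullTensor.pullTensor j _ _).symm ≪≫
      tensorIso (Groth.L29.LocFree.pullbackFreeIso j k) (Groth.L18.Ample.pullPow j L e) ≪≫ t₂.symm
  let T' := T.map (Scheme.Modules.pushforward j)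
  have hT' : T'.ShortExact := shortExact_push j hT
  let f₀ : G ⟶ T'.X₂ := a.hom ≫ (Scheme.Modules.pushforward j).map t₁.inv ≫ T'.f
  refine ⟨e, k, T'.X₂, T'.X₃, f₀, T'.g, by simp only [f₀, Category.assoc, T'.zero, comp_zero],
    η (I ^ n) E ≫ ((Scheme.Modules.pushforward j).mapIso t).hom,
    (isRed_η n E).comp_iso _, ⟨T.X₂, h₂, ⟨Iso.refl _⟩⟩, ⟨T.X₃, h₃, ⟨Iso.refl _⟩⟩, ?_⟩
  refine (ShortComplex.shortExact_iff_of_iso (S₁ := ShortComplex.mk f₀ T'.g
    (by simp only [f₀, Category.assoc, T'.zero, comp_zero])) (S₂ := T') (ShortComplex.isoMk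
    (a ≪≫ ((Scheme.Modules.pushforward j).mapIso t₁).symm) (Iso.refl _) (Iso.refl _) ?_ ?_)).2 hT'
  · simp only [f₀, Iso.trans_hom, Iso.symm_hom, Functor.mapIso_inv, Category.assoc, Iso.refl_hom]
    exact (Category.comp_id _).symm
  · exact (Category.id_comp _).trans (Category.comp_id _).symm

include hgen in
/-- An exact sequence of bundles on a thickening stays exact modulo torsion. -/
theorem shortExact_Φ {n : ℕ} {T : ShortComplex X.Modules} (hT : T.ShortExact) (h₂ : IsLevel I n T.X₂)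
    (h₃ : IsLevel I n T.X₃) : ∃ w, (ShortComplex.mk (Q.Φ.map T.f) (Q.Φ.map T.g) w).ShortExact := by
  haveI := hT.mono_f
  haveI := hT.epi_g
  haveI : PreservesFiniteColimits Q.Φ := inferInstanceAs (PreservesFiniteColimits (tensorRightF Q.O'))
  haveI : Q.Φ.Additive := by
    haveI : PreservesFiniteColimits (tensorRightF Q.O') := inferInstance
    haveI := preservesBinaryBiproducts_of_preservesBinaryCoproducts (tensorRightF Q.O')
    exact inferInstanceAs (tensorRightF Q.O').Additive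
  haveI : Epi (Q.Φ.map T.g) := inferInstance
  haveI : Mono (Q.Φ.map T.f) := mono_of_sm _ fun x => by
    refine (injective_iff_map_eq_zero ((Groth.L00.Stk.F X x).map (Q.Φ.map T.f)).hom).2 fun z hz => ?_
    obtain ⟨v, rfl⟩ := (Q.π_stalk x (hgen x) T.X₁).1 z
    replace hz : sm x (Q.Φ.map T.f) (sm x (Q.π T.X₁) v) = 0 := hz
    rw [← sm_comp, ← Q.π_natural, sm_comp] at hz
    refine ((Q.π_stalk x (hgen x) _).2 v).2 ?_
    obtain ⟨s, hs⟩ := hgen x
    obtain ⟨V₂, hV₂, ⟨a₂⟩⟩ := h₂
    obtain ⟨V₃, hV₃, ⟨a₃⟩⟩ := h₃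
    obtain ⟨m₂, b₂, hb₂, -⟩ := exists_frame_push n hV₂ x hs
    obtain ⟨m₃, b₃, hb₃, hb₃'⟩ := exists_frame_push n hV₃ x hs
    let ε₂ := ((Groth.L00.Stk.F X x).mapIso a₂).toLinearEquiv
    let ε₃ := ((Groth.L00.Stk.F X x).mapIso a₃).toLinearEquiv
    let p : Fin m₂ → (Groth.L00.Stk.F X x).obj T.X₂ := fun j => ε₂.symm (b₂ j)
    let q : Fin m₃ → (Groth.L00.Stk.F X x).obj T.X₃ := fun i => ε₃.symm (b₃ i)
    have hp : ∀ u, ∃ c : Fin m₂ → X.presheaf.stalk x, ∑ j, c j • p j = u := fun u => by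
      obtain ⟨c, hc⟩ := hb₂ (ε₂ u)
      exact ⟨c, ε₂.injective (by simp only [p, map_sum, map_smul, ε₂.apply_symm_apply, hc])⟩
    have hkill : ∀ u : (Groth.L00.Stk.F X x).obj T.X₂, s ^ n • u = 0 := fun u =>
      ε₂.injective (by rw [map_smul, map_zero]; exact smul_push_sub _ _ x (mem_sI_pow hs n ▸ Ideal.mem_span_singleton_self _) _)
    choose A hA using fun i => surjective_sm T.g x (q i)
    choose c hc using fun j => hb₃ (ε₃ (sm x T.g (p j)))
    let r : Fin m₂ → (Groth.L00.Stk.F X x).obj T.X₂ := fun j => p j - ∑ i, c j i • A i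
    have hr : ∀ j, ∃ u, sm x T.f u = r j := fun j => exists_preimage_of_sm_eq_zero hT.exact x (by
      show sm x T.g (p j - _) = 0
      rw [sm_map_sub, sub_eq_zero]
      refine ε₃.injective ?_
      rw [← hc j, show sm x T.g (∑ i, c j i • A i) = ∑ i, c j i • q i by
        show ((Groth.L00.Stk.F X x).map T.g).hom (∑ i, c j i • A i) = _
        rw [map_sum]
        exact Finset.sum_congr rfl fun i _ => by rw [map_smul]; exact congrArg (c j i • ·) (hA i)]
      simp only [q, map_sum, map_smul, ε₃.apply_symm_apply])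
    choose u hu using hr
    obtain ⟨k, hk, hk'⟩ := exists_coeff p hp _ (((Q.π_stalk x ⟨s, hs⟩ _).2 _).1 hz)
    have h0 : ∑ i, (∑ j, k j * c j i) • b₃ i = 0 := by
      calc ∑ i, (∑ j, k j * c j i) • b₃ i = ∑ j, k j • ∑ i, c j i • b₃ i := by
            simp only [Finset.sum_smul, Finset.smul_sum, smul_smul]; exact Finset.sum_comm
        _ = ε₃ (sm x T.g (∑ j, k j • p j)) := by
            simp only [hc]
            show _ = ε₃ (((Groth.L00.Stk.F X x).map T.g).hom _)
            simp only [map_sum, map_smul]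
        _ = 0 := by rw [hk', ← sm_comp, T.zero, sm_zero, map_zero]
    choose d hd using fun i => Ideal.mem_span_singleton'.1 ((hb₃' _).1 h0 i)
    have h1 : sm x T.f v = ∑ j, k j • r j := by
      rw [← hk']
      have h2 : ∑ j, k j • ∑ i, c j i • A i = 0 := by
        simp only [Finset.smul_sum, smul_smul]
        rw [Finset.sum_comm]
        refine Finset.sum_eq_zero fun i _ => ?_
        rw [← Finset.sum_smul, ← hd i, mul_smul, hkill, smul_zero]
      simp only [r, smul_sub, Finset.sum_sub_distrib, h2, sub_zero]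
    have h3 : v = ∑ j, k j • u j := by
      refine injective_sm T.f x (h1.trans ?_)
      show _ = ((Groth.L00.Stk.F X x).map T.f).hom _
      simp only [map_sum, map_smul, ← hu]
    rw [h3]
    exact Submodule.sum_mem _ fun j _ => Submodule.smul_mem_smul (hk j) Submodule.mem_top
  exact ⟨by rw [← Functor.map_comp, T.zero, Functor.map_zero],
    { exact := hT.exact.map_of_epi_of_preservesCokernel Q.Φ ‹_› inferInstance, mono_f := ‹_›, epi_g := ‹_› }⟩

variable (S : Sec I)

/-- Reductions of sums of twists. -/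
theorem killFrom_red {c₀ : ℕ} (h₀ : ∀ q, q ≤ 2 → S.KillFrom c₀ q 0 Q.O') {n e k : ℕ} {P : X.Modules}
    {π : CohB1.tensorMod (FlatMod.freeMod X k) (CohB1.tensorPow S.L e) ⟶ P} (h : IsRed I n π)
    {q : ℕ} (hq : q ≤ 1) : S.KillFrom (c₀ + c₀) q e (Q.Φ.obj P) := by
  let F := FlatMod.freeMod X k
  let E := CohB1.tensorMod F (CohB1.tensorPow S.L e)
  have hE : FlatMod.IsFinLocFree E :=
    Groth.L16.NegPow.isFinLocFree_freeTensor (Groth.L18.Ample.isInvertible_tensorPow S.invL e) k
  have hΦE : ∀ p, p ≤ 2 → S.KillFrom c₀ p e (Q.Φ.obj E) := fun p hp =>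
    Sec.KillFrom.of_iso S (tensorAssoc F Q.O' _ ≪≫ tensorIso (Iso.refl F) (tensorComm _ _) ≪≫
        (tensorAssoc F _ Q.O').symm)
      (Sec.KillFrom.mono S (((h₀ p hp).freeTensor S k).twist S e) le_rfl (by omega))
  obtain ⟨w, hS⟩ := S.exists_shortExact_red Q h hE
  exact Sec.KillFrom.quot S hS (hΦE q (by omega)) ((hΦE (q + 1) (by omega)).pw S n)

include hgen in
/-- The levels of bundles modulo torsion, uniformly in the thickening. -/
theorem exists_killFrom_level {c₀ : ℕ} (h₀ : ∀ q, q ≤ 2 → S.KillFrom c₀ q 0 Q.O') (hamp : CohB1.IsAmple S.L)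
    (n : ℕ) {G : X.Modules} (hG : IsLevel I n G) :
    ∃ t, ∀ q, q ≤ 1 → S.KillFrom (c₀ + c₀ + (c₀ + c₀)) q t (Q.Φ.obj G) := by
  let L' := S.M
  obtain ⟨e, k, P, G₁, f, g, w, π, hπ, hP, hG₁, hT⟩ := exists_level_embed hamp S.inv n hG
  obtain ⟨e', k', P', G₂, f', g', w', π', hπ', hP', hG₂, hT'⟩ := exists_level_embed hamp S.inv n hG₁
  obtain ⟨v, hΦ⟩ := shortExact_Φ Q hgen hT hP hG₁
  obtain ⟨v', hΦ'⟩ := shortExact_Φ Q hgen hT' hP' hG₂
  haveI := hΦ.mono_f
  haveI := hΦ'.mono_f
  refine ⟨max e e', fun q hq => ?_⟩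
  rcases Nat.le_one_iff_eq_zero_or_eq_one.1 hq with rfl | rfl
  · refine Sec.KillFrom.sub_zero S (Q.Φ.map f) ?_
    exact Sec.KillFrom.mono S (killFrom_red Q S h₀ hπ zero_le_one) (Nat.le_add_right _ _) (le_max_left _ _)
  · exact Sec.KillFrom.sub S hΦ (Sec.KillFrom.mono S (killFrom_red Q S h₀ hπ le_rfl) le_rfl (le_max_left _ _))
      (Sec.KillFrom.sub_zero S (Q.Φ.map f')
        (Sec.KillFrom.mono S (killFrom_red Q S h₀ hπ' zero_le_one) le_rfl (le_max_right _ _)))

end Groth.L13.AlgzSec
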