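import Groth.Agent.L13.AlgzSec.Level
import Groth.Agent.L18.LefTowerLift

/-!
# Global sections of the high twists of the zeroth level of a tower lift compatibly
-/

set_option autoImplicit false
set_option linter.style.haveILetI false
set_option linter.unusedSectionVars false
set_option backward.isDefEq.respectTransparency false
set_option backward.isDefEq.respectTransparency.types false
universe u

open CategoryTheory CategoryTheory.Limits AlgebraicGeometry Opposite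

noncomputable section

namespace Groth.L13.AlgzSec

open Groth.L00.Tensor (tensorMap tensorIso tensorComm tensorAssoc tensorUnitLeft tensorUnitRight tensorLeftF tensorRightF tensorFlipIso)
open Groth.L16.CohLinear (hmap hmap_comp exact_hmap_hmap exact_hmap_delta exact_delta_hmap delta overLin)
open Groth.L22.Reg (sm sm_comp sm_id sm_map_sub sm_map_zero sm_zero sm_map_add)
open Groth.L18.LefTower (sm_smul surjective_sm injective_sm epi_of_sm mono_of_sm exists_kernel_preimage Tower tensE tensE_natural)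
open Groth.L20.SeeNormal (sI)

variable {X : Scheme.{u}} {I : X.IdealSheafData}

/-- The stalks of a twist, naturally. -/
theorem exists_twist_stalk {W : X.Modules} (hW : PicF.IsInvertible W) (x : X) :
    ∃ φ : ∀ G : X.Modules, (Groth.L00.Stk.F X x).obj G ≃ₗ[X.presheaf.stalk x]
      (Groth.L00.Stk.F X x).obj ((tensorRightF W).obj G),
      ∀ {G G' : X.Modules} (g : G ⟶ G') v, sm x ((tensorRightF W).map g) (φ G v) = φ G' (sm x g v) := by
  obtain ⟨U, a, hxU, ha⟩ := Groth.L18.Frame.exists_frame hW x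
  let e := W.presheaf.germ U x hxU a
  let he := Groth.L03.Euler.bijective_toSpanSingleton_germ ha hxU
  refine ⟨fun G => tensE x W e he G ≪≫ₗ
    ((Groth.L00.Stk.F X x).mapIso ((tensorFlipIso W).app G).symm).toLinearEquiv, fun {G G'} g v => ?_⟩
  show sm x ((tensorRightF W).map g) (sm x ((tensorFlipIso W).inv.app G) (tensE x W e he G v)) =
    sm x ((tensorFlipIso W).inv.app G') (tensE x W e he G' (sm x g v))
  rw [← sm_comp, ← (tensorFlipIso W).inv.naturality g, sm_comp]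
  refine congrArg (sm x _) ?_
  show sm x (tensorMap (𝟙 _) g) _ = _
  rw [tensE_natural x (𝟙 _) e he e he 1 ((sm_id x _).trans (one_smul _ e).symm), one_smul]

/-- A twisted tower. -/
def twTower [IsLocallyNoetherian X] (T : Tower I) {W : X.Modules} (hW : PicF.IsInvertible W) : Tower I where
  G n := (tensorRightF W).obj (T.G n)
  tr n := (tensorRightF W).map (T.tr n)
  coh n := Groth.L03.Euler.isCoh_tensor hW (T.coh n)
  surj n x v := by
    obtain ⟨φ, hφ⟩ := exists_twist_stalk hW x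
    obtain ⟨w, rfl⟩ := (φ _).surjective v
    obtain ⟨z, rfl⟩ := T.surj n x w
    exact ⟨φ _ z, hφ _ _⟩
  kill n x s hs v := by
    obtain ⟨φ, hφ⟩ := exists_twist_stalk hW x
    obtain ⟨w, rfl⟩ := (φ _).surjective v
    rw [← map_smul, T.kill n x s hs, map_zero]
  ker_tr n x s hs v hv := by
    obtain ⟨φ, hφ⟩ := exists_twist_stalk hW x
    obtain ⟨w, rfl⟩ := (φ _).surjective v
    rw [hφ, LinearEquiv.map_eq_zero_iff] at hv
    obtain ⟨z, rfl⟩ := T.ker_tr n x s hs w hv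
    exact ⟨φ _ z, (map_smul _ _ _).symm⟩
  ann n a b x s hs hab v hv := by
    obtain ⟨φ, hφ⟩ := exists_twist_stalk hW x
    obtain ⟨w, rfl⟩ := (φ _).surjective v
    rw [← map_smul, LinearEquiv.map_eq_zero_iff] at hv
    obtain ⟨z, rfl⟩ := T.ann n a b x s hs hab w hv
    exact ⟨φ _ z, (map_smul _ _ _).symm⟩

theorem tau_twTower [IsLocallyNoetherian X] (T : Tower I) {W : X.Modules} (hW : PicF.IsInvertible W) {n k : ℕ}
    (h : n ≤ k) : (twTower T hW).tau h = (tensorRightF W).map (T.tau h) := by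
  induction h with
  | refl => rw [Tower.tau_self, Tower.tau_self, CategoryTheory.Functor.map_id]; rfl
  | @step k h ih =>
    rw [show (twTower T hW).tau (Nat.le.step h) = (twTower T hW).tr k ≫ (twTower T hW).tau h from Tower.tau_succ _ h,
      show T.tau (Nat.le.step h) = T.tr k ≫ T.tau h from Tower.tau_succ _ h, ih, Functor.map_comp]
    rfl

theorem tau_trans (T : Tower I) {a b c : ℕ} (h : a ≤ b) (h' : b ≤ c) :
    T.tau h' ≫ T.tau h = T.tau (h.trans h') := by
  induction h' with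
  | refl => rw [T.tau_self, Category.id_comp]
  | @step k h' ih =>
    rw [show T.tau (Nat.le.step h') = T.tr k ≫ T.tau h' from T.tau_succ h', Category.assoc, ih]
    exact (T.tau_succ (h.trans h')).symm

namespace Sec

variable (S : Sec I)

/-- Composite powers, naturally. -/
theorem exists_μ_add_nat : ∀ (a b : ℕ),
    ∃ e : S.Pw (a + b) ≅ S.Pw b ⋙ S.Pw a,
      ∀ G, e.hom.app G ≫ S.μ a ((S.Pw b).obj G) ≫ S.μ b G = S.μ (a + b) G := by
  intro a
  induction a with
  | zero =>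
    intro b
    have key : ∀ n (h : n = b), ∃ e : S.Pw n ≅ S.Pw b ⋙ S.Pw 0,
        ∀ G, e.hom.app G ≫ S.μ 0 ((S.Pw b).obj G) ≫ S.μ b G = S.μ n G := by
      rintro n rfl
      exact ⟨(Functor.rightUnitor _).symm, fun G =>
        (Category.id_comp _).trans (Category.id_comp _)⟩
    exact key _ (Nat.zero_add b)
  | succ a ih =>
    intro b
    obtain ⟨e, he⟩ := ih b
    have key : ∀ n (h : n = a + b + 1), ∃ e' : S.Pw n ≅ S.Pw b ⋙ S.Pw (a + 1),
        ∀ G, e'.hom.app G ≫ S.μ (a + 1) ((S.Pw b).obj G) ≫ S.μ b G = S.μ n G := by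
      rintro n rfl
      refine ⟨Functor.isoWhiskerRight e (tensorLeftF S.M) ≪≫ Functor.associator _ _ _, fun G => ?_⟩
      show ((tensorLeftF S.M).map (e.hom.app G) ≫ 𝟙 _) ≫ (S.μ₁ _ ≫ S.μ a _) ≫ S.μ b G = S.μ₁ _ ≫ S.μ (a + b) G
      rw [Category.comp_id, Category.assoc, ← Category.assoc ((tensorLeftF S.M).map _), μ₁_natural,
        Category.assoc, he]
    exact key _ (by omega)

/-- The kernel of a truncation of a tower. -/
theorem exists_tau_kernel (T : Tower I) (n m : ℕ) (hn : n ≤ n + 1 + m) (hm : m ≤ n + 1 + m) :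
    ∃ (j : (S.Pw (n + 1)).obj (T.G m) ⟶ T.G (n + 1 + m)) (w : j ≫ T.tau hn = 0),
      (S.Pw (n + 1)).map (T.tau hm) ≫ j = S.μ (n + 1) (T.G (n + 1 + m)) ∧
        (ShortComplex.mk j (T.tau hn) w).ShortExact := by
  let q := (S.Pw (n + 1)).map (T.tau hm)
  let μ := S.μ (n + 1) (T.G (n + 1 + m))
  haveI : Epi (T.tau hm) := epi_of_sm _ (T.surjective_tau hm)
  haveI : Epi q := inferInstance
  have hiff : ∀ x, ∀ z, sm x μ z = 0 ↔ sm x q z = 0 := fun x z => by
    obtain ⟨t, ht⟩ := S.exists_gen x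
    obtain ⟨β, hβn, hβ⟩ := S.exists_equiv_μ_eq_zero x (n + 1)
    obtain ⟨v, rfl⟩ := (β _).surjective z
    rw [hβ t ht, hβn, LinearEquiv.map_eq_zero_iff, T.tau_eq_zero_iff hm ht,
      T.smul_eq_zero_iff _ (n + 1) (m + 1) (by omega) ht]
  have hk : kernel.ι q ≫ μ = 0 := Groth.L21.Mod.hom_ext_stalk fun x => by
    ext z
    show sm x (kernel.ι q ≫ μ) z = sm x (0 : kernel q ⟶ _) z
    rw [sm_comp, sm_zero]
    exact (hiff x _).2 (by rw [← sm_comp, kernel.condition, sm_zero])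
  let j := Abelian.epiDesc q μ hk
  have hj : q ≫ j = μ := Abelian.comp_epiDesc q μ hk
  have hμτ : ∀ x v, sm x (T.tau hn) v = 0 ↔ ∃ z, sm x μ z = v := fun x v => by
    obtain ⟨t, ht⟩ := S.exists_gen x
    rw [T.tau_eq_zero_iff hn ht, S.exists_μ_eq_iff x ht]
  have w : j ≫ T.tau hn = 0 := by
    rw [← cancel_epi q, ← Category.assoc, hj, comp_zero]
    exact Groth.L21.Mod.hom_ext_stalk fun x => by
      ext z
      show sm x (μ ≫ T.tau hn) z = sm x (0 : (S.Pw (n + 1)).obj _ ⟶ T.G n) z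
      rw [sm_comp, sm_zero]
      exact (hμτ x _).2 ⟨z, rfl⟩
  haveI : Mono j := mono_of_sm _ fun x => by
    refine (injective_iff_map_eq_zero ((Groth.L00.Stk.F X x).map j).hom).2 fun y hy => ?_
    obtain ⟨z, rfl⟩ := surjective_sm q x y
    refine (hiff x z).1 ?_
    rw [← hj, sm_comp]
    exact hy
  haveI : Epi (T.tau hn) := epi_of_sm _ (T.surjective_tau hn)
  let c := kernel.lift (T.tau hn) j w
  haveI : Epi c := epi_of_sm c fun x z => by
    obtain ⟨y, hy⟩ := (hμτ x (sm x (kernel.ι (T.tau hn)) z)).1 (by rw [← sm_comp, kernel.condition, sm_zero])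
    refine ⟨sm x q y, injective_sm (kernel.ι (T.tau hn)) x ?_⟩
    rw [← sm_comp, ← sm_comp, kernel.lift_ι, hj, hy]
  haveI : Mono (c ≫ kernel.ι (T.tau hn)) := by rw [kernel.lift_ι]; infer_instance
  haveI : Mono c := mono_of_mono c (kernel.ι (T.tau hn))
  haveI : IsIso c := isIso_of_mono_of_epi c
  refine ⟨j, w, hj, (ShortComplex.shortExact_iff_of_iso (S₁ := ShortComplex.mk j (T.tau hn) w)
    (S₂ := ShortComplex.mk (kernel.ι (T.tau hn)) (T.tau hn) (kernel.condition _))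
    (ShortComplex.isoMk (asIso c) (Iso.refl _) (Iso.refl _) ?_ ?_)).2
    { exact := ShortComplex.exact_kernel _, mono_f := inferInstanceAs (Mono (kernel.ι (T.tau hn))), epi_g := ‹_› }⟩
  · exact (kernel.lift_ι (T.tau hn) j w).trans (Category.comp_id _).symm
  · exact (Category.id_comp _).trans (Category.comp_id _).symm

/-- The key step: one section lifts `C + 1` levels further, losing `C` levels. -/
theorem exists_step (T : Tower I) (C : ℕ) (n₀ : ℕ) (hK : S.Kill C 1 ((S.Pw (n₀ + 1)).obj (T.G (C + C))))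
    (h₁ : n₀ ≤ C + n₀) (h₂ : n₀ ≤ n₀ + 1 + (C + C)) (x : Coh.HH X (T.G (C + n₀)) 0) :
    ∃ y : Coh.HH X (T.G (n₀ + 1 + (C + C))) 0, hmap (T.tau h₂) 0 y = hmap (T.tau h₁) 0 x := by
  let N' := n₀ + 1 + (C + C)
  let N'' := C + n₀ + 1 + (C + C)
  obtain ⟨j', w', hj', hS'⟩ := S.exists_tau_kernel T n₀ (C + C) h₂ (by omega)
  obtain ⟨j'', w'', hj'', hS''⟩ := S.exists_tau_kernel T (C + n₀) (C + C) (by omega) (by omega)
  obtain ⟨e, he⟩ := S.exists_μ_add_nat C (n₀ + 1)
  have hNN : N' ≤ N'' := by omega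
  let ψ : (S.Pw (C + n₀ + 1)).obj (T.G (C + C)) ⟶ (S.Pw (n₀ + 1)).obj (T.G (C + C)) :=
    e.hom.app _ ≫ S.μ C _
  have hψ : ψ ≫ j' = j'' ≫ T.tau hNN := by
    let τ : T.G N'' ⟶ T.G (C + C) := T.tau (show C + C ≤ N'' by omega)
    haveI : Epi τ := epi_of_sm _ (T.surjective_tau _)
    rw [← cancel_epi ((S.Pw (C + n₀ + 1)).map τ)]
    have h1 : (S.Pw (n₀ + 1)).map τ ≫ j' = S.μ (n₀ + 1) (T.G N'') ≫ T.tau hNN := by
      rw [show τ = T.tau hNN ≫ T.tau (show C + C ≤ N' by omega) from (tau_trans T _ hNN).symm, Functor.map_comp,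
        Category.assoc, hj', S.μ_natural]
    calc (S.Pw (C + n₀ + 1)).map τ ≫ (e.hom.app _ ≫ S.μ C _) ≫ j'
        = (e.hom.app (T.G N'') ≫ (S.Pw C).map ((S.Pw (n₀ + 1)).map τ)) ≫ S.μ C _ ≫ j' := by
          have hn : (S.Pw (C + (n₀ + 1))).map τ ≫ e.hom.app _ = e.hom.app _ ≫ (S.Pw C).map ((S.Pw (n₀ + 1)).map τ) :=
            e.hom.naturality τ
          rw [← hn]
          simp only [Category.assoc]
          rfl
      _ = e.hom.app _ ≫ S.μ C _ ≫ (S.Pw (n₀ + 1)).map τ ≫ j' := by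
          rw [Category.assoc, ← Category.assoc ((S.Pw C).map _), S.μ_natural, Category.assoc]
      _ = S.μ (C + (n₀ + 1)) (T.G N'') ≫ T.tau hNN := by
          rw [h1, ← reassoc_of% he]
      _ = (S.Pw (C + n₀ + 1)).map τ ≫ j'' ≫ T.tau hNN := by
          rw [← Category.assoc _ j'', hj'']
          rfl
  let F : ShortComplex.mk j'' _ w'' ⟶ ShortComplex.mk j' _ w' :=
    { τ₁ := ψ
      τ₂ := T.tau hNN
      τ₃ := T.tau h₁
      comm₁₂ := hψ
      comm₂₃ := (tau_trans T h₂ hNN).trans (tau_trans T h₁ _).symm }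
  have h0 : delta hS' 0 (hmap (T.tau h₁) 0 x) = 0 := by
    refine (Groth.L16.Rees.delta_naturality hS'' hS' F x).trans ?_
    show hmap ψ 1 _ = 0
    rw [hmap_comp]
    exact hK _
  exact (exact_hmap_delta hS' 0 _).1 h0

/-- A section of a high level gives a compatible family, agreeing with it below. -/
theorem exists_compatible (T : Tower I) (C n₀ : ℕ)
    (hK : ∀ n, n₀ ≤ n → S.Kill C 1 ((S.Pw (n + 1)).obj (T.G (C + C)))) (x : Coh.HH X (T.G (C + n₀)) 0) :
    ∃ σ : ∀ n, Coh.HH X (T.G n) 0, (∀ n, hmap (T.tr n) 0 (σ (n + 1)) = σ n) ∧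
      σ 0 = hmap (T.tau (Nat.zero_le _)) 0 x := by
  have hstep : ∀ (i : ℕ) (x : Coh.HH X (T.G (C + (n₀ + i * (C + 1)))) 0),
      ∃ y : Coh.HH X (T.G (C + (n₀ + (i + 1) * (C + 1)))) 0,
        hmap (T.tau (show n₀ + i * (C + 1) ≤ C + (n₀ + (i + 1) * (C + 1)) by rw [Nat.succ_mul]; omega)) 0 y =
          hmap (T.tau (Nat.le_add_left _ C)) 0 x := fun i x => by
    have key : ∀ (N : ℕ) (_ : N = n₀ + i * (C + 1) + 1 + (C + C)) (h : n₀ + i * (C + 1) ≤ N),
        ∃ y : Coh.HH X (T.G N) 0, hmap (T.tau h) 0 y = hmap (T.tau (Nat.le_add_left _ C)) 0 x := by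
      rintro N rfl h
      exact S.exists_step T C (n₀ + i * (C + 1)) (hK _ (Nat.le_add_right _ _)) _ h x
    exact key _ (by rw [Nat.succ_mul]; omega) _
  choose next hnext using hstep
  have e₀ : C + n₀ = C + (n₀ + 0 * (C + 1)) := by omega
  let z : ∀ i, Coh.HH X (T.G (C + (n₀ + i * (C + 1)))) 0 := fun i =>
    Nat.rec (hmap (T.tau e₀.ge) 0 x) (fun i z => next i z) i
  have hz : ∀ i, hmap (T.tau (show n₀ + i * (C + 1) ≤ C + (n₀ + (i + 1) * (C + 1)) by rw [Nat.succ_mul]; omega)) 0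
      (z (i + 1)) = hmap (T.tau (Nat.le_add_left _ C)) 0 (z i) := fun i => hnext i (z i)
  have hle : ∀ n, n ≤ n₀ + n * (C + 1) := fun n =>
    (Nat.le_mul_of_pos_right n (Nat.succ_pos C)).trans (Nat.le_add_left _ _)
  have hkey : ∀ i n (h : n ≤ n₀ + i * (C + 1)),
      hmap (T.tau (show n ≤ C + (n₀ + (i + 1) * (C + 1)) by rw [Nat.succ_mul]; omega)) 0 (z (i + 1)) =
        hmap (T.tau (h.trans (Nat.le_add_left _ C))) 0 (z i) := fun i n h => by
    have := congrArg (hmap (T.tau h) 0) (hz i)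
    rwa [← hmap_comp, ← hmap_comp, tau_trans, tau_trans] at this
  let σ : ∀ n, Coh.HH X (T.G n) 0 := fun n => hmap (T.tau ((hle n).trans (Nat.le_add_left _ C))) 0 (z n)
  refine ⟨σ, fun n => ?_, ?_⟩
  · show hmap (T.tr n) 0 (hmap (T.tau _) 0 (z (n + 1))) = hmap (T.tau _) 0 (z n)
    rw [← hmap_comp, T.tau_tr]
    exact hkey n n (hle n)
  · show hmap (T.tau _) 0 (hmap (T.tau e₀.ge) 0 x) = _
    rw [← hmap_comp, tau_trans]

end Sec

variable {A : Type u} [CommRing A] [IsNoetherianRing A] [X.Over (Spec (CommRingCat.of A))]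
  [IsProper (X ↘ Spec (CommRingCat.of A))] [IsLocallyNoetherian X] [CompactSpace X]

include A in
/-- Sections of high twists of the zeroth level come from levels a constant above the twist. -/
theorem exists_surjective_tau (S : Sec I) (hamp : CohB1.IsAmple S.L) (T : Tower I) (j₀ : ℕ) :
    ∃ m₀, ∀ m, m₀ ≤ m → Function.Surjective
      (hmap ((tensorRightF (CohB1.tensorPow S.L (m + 1))).map (T.tau (Nat.zero_le (0 + 1 + (j₀ + m))))) 0) := by
  let f := X ↘ Spec (CommRingCat.of A)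
  obtain ⟨m₁, hm₁⟩ := Groth.L16.Rees.RelVanish.exists_vanishing f hamp (T.coh 0)
  let E : ℕ → X.Modules ⥤ X.Modules := fun m => tensorRightF (CohB1.tensorPow S.L m)
  haveI hE : ∀ m, (E m).IsEquivalence := fun m => Groth.L22.PDual.isEquivalence_tensorRightF
    (tensorComm _ _ ≪≫ Groth.L22.EnrSev.powInv S.inv m)
  haveI : ∀ m, (E m).Additive := fun m => Functor.additive_of_preserves_binary_products _
  choose j w hj hS using fun m : ℕ => S.exists_tau_kernel T 0 (j₀ + m) (Nat.zero_le _) (Nat.le_add_left _ _)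
  have he : ∀ m, Nonempty ((E (m + 1)).obj ((S.Pw (0 + 1)).obj (T.G (j₀ + m))) ≅ (E m).obj (T.G (j₀ + m))) :=
    fun m => by
      obtain ⟨b⟩ := S.nonempty_Pw_twist (T.G (j₀ + m)) 1 0
      exact ⟨tensorIso (Iso.refl _) (tensorComm _ _ ≪≫ tensorIso (tensorUnitLeft S.L).symm (Iso.refl _)) ≪≫
        (tensorAssoc _ _ _).symm ≪≫ tensorIso b (Iso.refl _)⟩
  choose e he' using fun m => (⟨(he m).some, trivial⟩ :
    ∃ _e : (E (m + 1)).obj ((S.Pw (0 + 1)).obj (T.G (j₀ + m))) ≅ (E m).obj (T.G (j₀ + m)), True)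
  have hidx : ∀ m, 0 + 1 + (j₀ + m) = j₀ + (m + 1) := fun m => by omega
  let ι : ∀ m, T.G (0 + 1 + (j₀ + m)) ≅ T.G (j₀ + (m + 1)) := fun m => eqToIso (congrArg T.G (hidx m))
  let φ : ∀ m, (E m).obj (T.G (j₀ + m)) ⟶ (E (m + 1)).obj (T.G (j₀ + (m + 1))) := fun m =>
    (e m).inv ≫ (E (m + 1)).map (j m) ≫ (E (m + 1)).map (ι m).hom
  let H : ℕ → Type u := fun m => Coh.HH X ((E m).obj (T.G (j₀ + m))) 1
  let u : ∀ m, H m →ₗ[A] H (m + 1) := fun m => overLin A (hmap (φ m) 1)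
  haveI : Module.Finite A (H m₁) :=
    Groth.L16.ProperFinite.finite_HH A (Groth.L18.LefTower.isCoh_twist hamp (T.coh _) _) 1
  obtain ⟨m₂, hm₂⟩ := Groth.L18.LefTower.exists_injective_of_surjective H u m₁ fun m hm z => by
    obtain ⟨y, hy⟩ := (exact_hmap_hmap ((hS m).map_of_exact (E (m + 1))) 1
      (hmap ((E (m + 1)).map (ι m).inv) 1 z)).1 (@Subsingleton.elim _ (hm₁ (m + 1) (by omega) 1 one_pos) _ _)
    refine ⟨hmap (e m).hom 1 y, ?_⟩
    show hmap (φ m) 1 (hmap (e m).hom 1 y) = z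
    rw [← hmap_comp, show (e m).hom ≫ φ m = (E (m + 1)).map (j m) ≫ (E (m + 1)).map (ι m).hom by simp [φ],
      hmap_comp]
    refine (congrArg (hmap ((E (m + 1)).map (ι m).hom) 1) hy).trans ?_
    rw [← hmap_comp, ← Functor.map_comp, Iso.inv_hom_id, CategoryTheory.Functor.map_id,
      Groth.L16.CohLinear.hmap_id]
  refine ⟨m₂, fun m hm y => ?_⟩
  have hS' := (hS m).map_of_exact (E (m + 1))
  refine (exact_hmap_delta hS' 0 y).1 ?_
  have h0 : hmap ((E (m + 1)).map (j m)) 1 (delta hS' 0 y) = 0 := (exact_delta_hmap hS' 0 _).2 ⟨y, rfl⟩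
  have h1 : u m (hmap (e m).hom 1 (delta hS' 0 y)) = 0 := by
    show hmap (φ m) 1 _ = 0
    rw [← hmap_comp, show (e m).hom ≫ φ m = (E (m + 1)).map (j m) ≫ (E (m + 1)).map (ι m).hom by simp [φ],
      hmap_comp]
    exact (congrArg (hmap ((E (m + 1)).map (ι m).hom) 1) h0).trans (map_zero _)
  have h2 := hm₂ m hm (h1.trans (map_zero (u m)).symm)
  have h3 := congrArg (hmap (e m).inv 1) h2
  rwa [← hmap_comp, Iso.hom_inv_id, Groth.L16.CohLinear.hmap_id, map_zero] at h3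

include A in
/-- The sections of high twists of the zeroth level lift to compatible families. -/
theorem exists_lift_tower (S : Sec I) (hamp : CohB1.IsAmple S.L) (T : Tower I) (C t : ℕ)
    (hK : S.KillFrom C 1 t (T.G (C + C))) :
    ∃ a₀, ∀ a, a₀ ≤ a → ∀ y : Coh.HH X ((tensorRightF (CohB1.tensorPow S.L a)).obj (T.G 0)) 0,
      ∃ σ : ∀ n, Coh.HH X ((tensorRightF (CohB1.tensorPow S.L a)).obj (T.G n)) 0,
        (∀ n, hmap ((tensorRightF (CohB1.tensorPow S.L a)).map (T.tr n)) 0 (σ (n + 1)) = σ n) ∧ σ 0 = y := by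
  obtain ⟨m₀, hm₀⟩ := exists_surjective_tau (A := A) S hamp T (t + C)
  refine ⟨m₀ + 1, fun a ha y => ?_⟩
  obtain ⟨m, rfl⟩ : ∃ m, a = m + 1 := ⟨a - 1, by omega⟩
  let hW := Groth.L18.Ample.isInvertible_tensorPow hamp.1 (m + 1)
  let T' := twTower T hW
  obtain ⟨x, hx⟩ := hm₀ m (by omega) y
  have key : ∀ (N : ℕ) (_ : N = 0 + 1 + (t + C + m)),
      ∃ x : Coh.HH X (T'.G N) 0, hmap (T'.tau (Nat.zero_le N)) 0 x = y := by
    rintro N rfl
    exact ⟨x, by rw [tau_twTower]; exact hx⟩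
  obtain ⟨x', hx'⟩ := key (C + (t + m + 1)) (by omega)
  obtain ⟨σ, hσ, hσ₀⟩ := S.exists_compatible T' C (t + m + 1) (fun n hn => by
    obtain ⟨a'⟩ := S.nonempty_Pw_tensor (T.G (C + C)) (CohB1.tensorPow S.L (m + 1)) (n + 1)
    obtain ⟨b⟩ := S.nonempty_Pw_twist (T.G (C + C)) (m + 1) (n - m)
    rw [show n - m + (m + 1) = n + 1 by omega] at b
    exact Sec.Kill.of_iso S (a' ≪≫ b).symm (hK (n - m) (by omega))) x'
  exact ⟨σ, hσ, hσ₀.trans hx'⟩

end Groth.L13.AlgzSec
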