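import Groth.Agent.L13.AlgzSec.Systems
import Groth.Agent.L13.FEtLeff.LefHyper
import Groth.Agent.L18.FreeNearLevels
import Groth.Agent.L18.ModSysAlgz
import Groth.Agent.L22.IntMult.Acyclic

/-!
# Levelwise locally free systems along the zeros of a section of an ample module algebraize

`X` is proper over a field, `s` a section of an ample invertible module and the depth at the closed points off
`V(s)` is at least three.  Every levelwise finite locally free system on the completion along `V(s)` is the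
completion of a coherent module, locally free near `V(s)`.  Nothing is assumed on zero divisors.
-/

set_option autoImplicit false
set_option linter.style.haveILetI false
set_option linter.unusedSectionVars false
set_option backward.isDefEq.respectTransparency false
set_option backward.isDefEq.respectTransparency.types false
universe u

open CategoryTheory CategoryTheory.Limits AlgebraicGeometry Opposite

noncomputable section

namespace Groth.L13.AlgzSec

open Groth.L00.Tensor (tensorMap tensorIso tensorComm tensorAssoc tensorUnitLeft tensorUnitRight tensorRightF)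
open Groth.L16.CohLinear (hmap hmap_comp)
open Groth.L22.Reg (sm sm_comp sm_id sm_map_sub sm_map_zero sm_zero sm_map_add)
open Groth.L18.LefTower (sm_smul surjective_sm injective_sm epi_of_sm mono_of_sm exists_kernel_preimage exists_preimage_of_sm_eq_zero)
open Groth.L20.SeeNormal (sI)
open Groth.L17.IdealMulSec (η)
open Groth.L18.GenLoc (secOf secOf_homOfSection)

variable {X : Scheme.{u}}

/-- Reductions survive twists on the right. -/
theorem IsRed.tensorRight {I : X.IdealSheafData} {l : ℕ} {E P : X.Modules} {π : E ⟶ P} (h : IsRed I l π)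
    {W : X.Modules} (hW : PicF.IsInvertible W) : IsRed I l ((tensorRightF W).map π) := by
  refine ⟨fun x w => ?_, fun x t ht v => ?_⟩ <;> obtain ⟨φ, hφ⟩ := exists_twist_stalk hW x
  · obtain ⟨w, rfl⟩ := (φ P).surjective w
    obtain ⟨v, rfl⟩ := h.1 x w
    exact ⟨φ E v, hφ π v⟩
  · obtain ⟨v, rfl⟩ := (φ E).surjective v
    rw [hφ, LinearEquiv.map_eq_zero_iff, h.2 x t ht v]
    constructor
    · rintro ⟨w, rfl⟩; exact ⟨φ E w, (map_smul _ _ _).symm⟩
    · rintro ⟨w, hw⟩
      obtain ⟨w, rfl⟩ := (φ E).surjective w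
      exact ⟨w, (φ E).injective (by rw [map_smul, hw])⟩

/-- A bundle has the depth of the structure sheaf. -/
theorem le_depth_vb [IsLocallyNoetherian X] {E : X.Modules} (hE : FlatMod.IsFinLocFree E) (x : X) {n : ℕ}
    (h : (n : ℕ∞) ≤ LocCoh.depth (X.presheaf.stalk x) (X.presheaf.stalk x)) :
    (n : ℕ∞) ≤ LocCoh.depth (X.presheaf.stalk x) (E.presheaf.stalk x) := by
  let R := X.presheaf.stalk x
  let M := E.presheaf.stalk x
  haveI : Module.Free R M := Groth.L18.LFP.free_stalk E hE x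
  haveI : Module.Finite R M := Groth.L18.LFP.finite_stalk E ((Groth.L18.LFP.isFP_and_free_iff E).2 hE).1 x
  exact (Groth.L22.IntMult.le_depth_pi h (Module.finrank R M)).trans_eq
    (Groth.L04.idealDepth_congr (Module.finBasis R M).equivFun).symm

variable {k : Type u} [Field k] (f : X ⟶ Spec (CommRingCat.of k)) [IsProper f] {L : X.Modules}
  (hL : CohB1.IsAmple L) (s : Coh.structureModule X ⟶ L)

include f hL in
/-- Compatible maps into the reductions of a bundle out of a sum of negative twists come from a map. -/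
theorem exists_hom (S : Sec (PicF2.zeroScheme L s)) (hSL : S.L = L) [IsNoetherian X]
    (hd : ∀ x : X, IsClosed ({x} : Set X) → x ∉ (PicF2.zeroScheme L s).support →
      (2 : ℕ∞) ≤ LocCoh.depth (X.presheaf.stalk x) (X.presheaf.stalk x))
    (hgen : ∀ x, ∃ t, sI (PicF2.zeroScheme L s) x = Ideal.span {t}) {E : X.Modules} (hE : FlatMod.IsFinLocFree E)
    (r a : ℕ) (ω : ∀ n, CohB1.tensorMod (FlatMod.freeMod X r) (CohB1.tensorPow S.M a) ⟶ (bundleSys hgen E hE).G n)
    (hω : ∀ n, ω (n + 1) ≫ (bundleSys hgen E hE).tr n = ω n) :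
    ∃ g, ∀ n, g ≫ η (PicF2.zeroScheme L s ^ (n + 1)) E = ω n := by
  classical
  let I := PicF2.zeroScheme L s
  let W := CohB1.tensorPow S.L a
  have hW : PicF.IsInvertible W := Groth.L18.Ample.isInvertible_tensorPow S.invL a
  let T := tensorRightF W
  let p := Groth.L22.EnrSev.powInv S.inv a
  haveI : T.IsEquivalence := Groth.L22.PDual.isEquivalence_tensorRightF (tensorComm _ _ ≪≫ p)
  haveI : T.Additive := Functor.additive_of_preserves_binary_products _
  haveI : Coh.IsQCoh E := (Groth.L16.NegPow.isCoh_of_isFinLocFree hE).1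
  have hTE : FlatMod.IsFinLocFree (T.obj E) :=
    Groth.L29.DC.isFinLocFree_tensor hE (Groth.L20.ResDescent.isFinLocFree_of_isInvertible hW)
  have hTc : Coh.IsCoh (T.obj E) := Groth.L16.NegPow.isCoh_of_isFinLocFree hTE
  haveI := hTc.1
  let π : ∀ n, T.obj E ⟶ T.obj ((bundleSys hgen E hE).G n) := fun n => T.map (η (I ^ (n + 1)) E)
  choose e he using fun n => (isRed_η (I := I) (n + 1) (T.obj E)).exists_iso hgen
    ((isRed_η (I := I) (n + 1) E).tensorRight hW)
  have hw : ∀ n, Dual3.idealMulι (I ^ (n + 1)) (T.obj E) ≫ π n = 0 := fun n => by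
    rw [show π n = η (I ^ (n + 1)) (T.obj E) ≫ (e n).hom from (he n).symm, ← Category.assoc,
      show Dual3.idealMulι (I ^ (n + 1)) (T.obj E) ≫ η (I ^ (n + 1)) (T.obj E) = 0 from kernel.condition _, zero_comp]
  have hS : ∀ n, (ShortComplex.mk _ (π n) (hw n)).ShortExact := fun n =>
    (ShortComplex.shortExact_iff_of_iso (S₁ := ShortComplex.mk _ (η (I ^ (n + 1)) (T.obj E)) (kernel.condition _))
      (S₂ := ShortComplex.mk (Dual3.idealMulι (I ^ (n + 1)) (T.obj E)) (π n) (hw n))
      (ShortComplex.isoMk (Iso.refl _) (Iso.refl _) (e n)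
        ((Category.id_comp _).trans (Category.comp_id _).symm) ((Category.id_comp _).trans (he n).symm))).1
      (Groth.L18.OffAffine.shortExact_idealMul _ _)
  have hle : ∀ {i j : ℕ}, i ≤ j → ∃ l : (Dual3.idealMul (I ^ (j + 1))).obj (T.obj E) ⟶
      (Dual3.idealMul (I ^ (i + 1))).obj (T.obj E),
      l ≫ Dual3.idealMulι (I ^ (i + 1)) (T.obj E) = Dual3.idealMulι (I ^ (j + 1)) (T.obj E) := fun {i j} h =>
    Groth.L17.IdealMulSec.exists_le (I ^ (j + 1)) (T.obj E)
      (Groth.L17.IdealMulExtend.pow_le_pow _ (Nat.add_le_add_right h 1))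
  choose κ hκ using @hle
  obtain ⟨-, surj⟩ := Groth.L18.OffAffine.sections_bijective _ _ _ π hw hS
    (fun n => T.map ((bundleSys hgen E hE).tr n))
    (fun n => by rw [← Functor.map_comp, bundleSys_tr]) @κ @hκ
    (fun i hi m => by
      obtain ⟨d, hd'⟩ := Groth.L18.OffAffine.exists_hmap_eq_zero_coh f hL s hTc 1
        (fun x hx hxs => le_depth_vb hTE x (hd x hx hxs)) i hi (m + 1)
      exact ⟨m + d, Nat.le_add_right m d, hd' (m + d + 1) (by omega) _ (hκ _)⟩)
  let c : T.obj (CohB1.tensorMod (FlatMod.freeMod X r) (CohB1.tensorPow S.M a)) ≅ FlatMod.freeMod X r :=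
    tensorAssoc _ _ _ ≪≫ tensorIso (Iso.refl _) p ≪≫ tensorUnitRight _
  let θ : ∀ n, FlatMod.freeMod X r ⟶ T.obj ((bundleSys hgen E hE).G n) := fun n => c.inv ≫ T.map (ω n)
  have hθ : ∀ n, θ (n + 1) ≫ T.map ((bundleSys hgen E hE).tr n) = θ n := fun n => by
    rw [Category.assoc, ← Functor.map_comp, hω]
  let ι : Fin r → (Coh.structureModule X ⟶ FlatMod.freeMod X r) := fun j =>
    Sigma.ι (fun _ : Fin r => Coh.structureModule X) j
  choose σ hσ using fun j : Fin r => surj (fun n => secOf (ι j ≫ θ n)) (fun n => by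
    show secOf ((ι j ≫ θ (n + 1)) ≫ T.map ((bundleSys hgen E hE).tr n)) = _
    rw [Category.assoc, hθ])
  let G : FlatMod.freeMod X r ⟶ T.obj E := Sigma.desc fun j => Groth.L16.homOfSection _ (σ j)
  refine ⟨T.preimage (c.hom ≫ G), fun n => T.map_injective ?_⟩
  rw [Functor.map_comp, Functor.map_preimage, Category.assoc, ← cancel_epi c.inv, c.inv_hom_id_assoc]
  refine Sigma.hom_ext _ _ fun j => ?_
  rw [Sigma.ι_desc_assoc]
  refine Groth.L18.LefConnected.hom_ext_secOf ?_
  show (π n).app ⊤ (secOf (Groth.L16.homOfSection (T.obj E) (σ j))) = _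
  rw [secOf_homOfSection]
  exact hσ j n

include f hL in
/-- A coherent module with a given levelwise locally free system as completion. -/
theorem exists_algebraization
    (hd : ∀ x : X, IsClosed ({x} : Set X) → x ∉ (PicF2.zeroScheme L s).support →
      (3 : ℕ∞) ≤ LocCoh.depth (X.presheaf.stalk x) (X.presheaf.stalk x))
    (𝔐 : FSch.ModSys (FSch.completionAlong X (PicF2.zeroScheme L s))) (h𝔐 : LefX.LevelwiseFinLocFree 𝔐) :
    ∃ F : X.Modules, Coh.IsCoh F ∧ Nonempty (FSch.complMod (PicF2.zeroScheme L s) F ≅ 𝔐) := by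
  classical
  let I := PicF2.zeroScheme L s
  haveI : IsLocallyNoetherian X := LocallyOfFiniteType.isLocallyNoetherian f
  haveI : CompactSpace X := QuasiCompact.compactSpace_of_compactSpace f
  haveI : IsNoetherian X := {}
  obtain ⟨S, hSL⟩ := exists_sec hL.1 s
  have hamp : CohB1.IsAmple S.L := hSL.symm ▸ hL
  obtain ⟨Q⟩ := S.exists_tf
  obtain ⟨c₀, hc₀⟩ := exists_kill_uniform f hL s S hSL Q.coh 2 (fun x hx hxs =>
    (hd x hx hxs).trans_eq (Q.depth_O' hxs (S.exists_gen x)).symm)
  have h₀ : ∀ q, q ≤ 2 → S.KillFrom c₀ q 0 Q.O' := fun q hq d _ => hc₀ d q hq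
  have hgen := S.exists_gen
  let T := sysOf I 𝔐 h𝔐
  obtain ⟨r, a, ψ, hψ, hψe⟩ := exists_cover f S hamp Q h₀ T
  let E := CohB1.tensorMod (FlatMod.freeMod X r) (CohB1.tensorPow S.M a)
  have hE : FlatMod.IsFinLocFree E :=
    Groth.L16.NegPow.isFinLocFree_freeTensor (Groth.L18.Ample.isInvertible_tensorPow S.isInvertible_M a) r
  haveI : Coh.IsQCoh E := (Groth.L16.NegPow.isCoh_of_isFinLocFree hE).1
  let P := bundleSys hgen E hE
  haveI hη : ∀ n, Epi (η (I ^ (n + 1)) E) := fun n => Groth.L22.Reg.epi_unit (I ^ (n + 1)).subschemeι E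
  have hk : ∀ n, kernel.ι (η (I ^ (n + 1)) E) ≫ ψ n = 0 := fun n => Groth.L21.Mod.hom_ext_stalk fun x => by
    ext z
    show sm x (kernel.ι (η (I ^ (n + 1)) E) ≫ ψ n) z = sm x (0 : kernel _ ⟶ T.G n) z
    obtain ⟨t, ht⟩ := hgen x
    obtain ⟨w, hw⟩ := ((isRed_η (I := I) (n + 1) E).2 x t ht (sm x (kernel.ι _) z)).1 (by
      rw [← sm_comp, kernel.condition, sm_zero])
    rw [sm_comp, sm_zero, ← hw, sm_smul, T.kill n x t ht]
  let φ : ∀ n, P.G n ⟶ T.G n := fun n => Abelian.epiDesc (η (I ^ (n + 1)) E) (ψ n) (hk n)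
  have hφη : ∀ n, η (I ^ (n + 1)) E ≫ φ n = ψ n := fun n => Abelian.comp_epiDesc _ _ _
  have hφ : ∀ n, φ (n + 1) ≫ T.tr n = P.tr n ≫ φ n := fun n => by
    refine (cancel_epi (η (I ^ (n + 1 + 1)) E)).1 ?_
    rw [← Category.assoc, hφη, hψ, ← Category.assoc, bundleSys_tr, hφη]
  have hφe : ∀ n, Epi (φ n) := fun n => by
    haveI := hψe n
    exact epi_of_epi_fac (hφη n)
  obtain ⟨K, ι, w, hι, hKex⟩ := exists_kerSys hgen P T φ hφ hφe
  obtain ⟨r', a', ψ', hψ', hψ'e⟩ := exists_cover f S hamp Q h₀ K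
  obtain ⟨g, hg⟩ := exists_hom f hL s S hSL (fun x hx hxs => le_trans (by norm_num) (hd x hx hxs)) hgen hE r' a'
    (fun n => ψ' n ≫ ι n) (fun n => by rw [Category.assoc, hι, ← Category.assoc, hψ'])
  have hgψ : ∀ n, g ≫ ψ n = 0 := fun n => by
    rw [← hφη, ← Category.assoc, hg, Category.assoc, w, comp_zero]
  let F := cokernel g
  let β : ∀ n, F ⟶ T.G n := fun n => cokernel.desc g (ψ n) (hgψ n)
  have hπβ : ∀ n, cokernel.π g ≫ β n = ψ n := fun n => cokernel.π_desc _ _ _
  have hE' : Coh.IsCoh (CohB1.tensorMod (FlatMod.freeMod X r') (CohB1.tensorPow S.M a')) :=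
    Groth.L16.NegPow.isCoh_of_isFinLocFree
      (Groth.L16.NegPow.isFinLocFree_freeTensor (Groth.L18.Ample.isInvertible_tensorPow S.isInvertible_M a') r')
  have hF : Coh.IsCoh F :=
    (Groth.L16.CohKernel.isCoh_kernel_cokernel hE' (Groth.L16.NegPow.isCoh_of_isFinLocFree hE) g).2
  refine ⟨F, hF, Groth.L18.LefTower.nonempty_complMod_iso I 𝔐 h𝔐 hF β (fun n => ?_) (fun n x v => ?_)
    (fun n x t ht v hv => ?_) hgen⟩
  · refine (cancel_epi (cokernel.π g)).1 ?_
    rw [← Category.assoc, hπβ, hπβ]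
    exact hψ n
  · haveI := hψe n
    obtain ⟨e, he⟩ := surjective_sm (ψ n) x v
    exact ⟨sm x (cokernel.π g) e, by rw [← sm_comp, hπβ]; exact he⟩
  · obtain ⟨e, rfl⟩ := surjective_sm (cokernel.π g) x v
    rw [← sm_comp, hπβ, ← hφη, sm_comp] at hv
    obtain ⟨c, hc⟩ := exists_preimage_of_sm_eq_zero (hKex n) x hv
    haveI := hψ'e n
    obtain ⟨y, rfl⟩ := surjective_sm (ψ' n) x c
    obtain ⟨z, hz⟩ := ((isRed_η (I := I) (n + 1) E).2 x t ht (e - sm x g y)).1 (by
      rw [sm_map_sub, ← sm_comp, hg, sub_eq_zero, sm_comp]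
      exact hc.symm)
    refine ⟨sm x (cokernel.π g) z, ?_⟩
    rw [← sm_smul, hz, sm_map_sub, ← sm_comp, cokernel.condition, sm_zero, sub_zero]

include f hL in
/-- A bundle near the zeros with a given levelwise locally free system as completion. -/
theorem exists_bundle
    (hd : ∀ x : X, IsClosed ({x} : Set X) → x ∉ (PicF2.zeroScheme L s).support →
      (3 : ℕ∞) ≤ LocCoh.depth (X.presheaf.stalk x) (X.presheaf.stalk x))
    (𝔐 : FSch.ModSys (FSch.completionAlong X (PicF2.zeroScheme L s))) (h𝔐 : LefX.LevelwiseFinLocFree 𝔐) :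
    ∃ (U : X.Opens) (F : X.Modules), ((PicF2.zeroScheme L s).support : Set X) ⊆ (U : Set X) ∧ Coh.IsCoh F ∧
      FlatMod.IsFinLocFree (F.restrict U.ι) ∧ Nonempty (FSch.complMod (PicF2.zeroScheme L s) F ≅ 𝔐) := by
  haveI : IsLocallyNoetherian X := LocallyOfFiniteType.isLocallyNoetherian f
  obtain ⟨F, hF, ⟨e⟩⟩ := exists_algebraization f hL s hd 𝔐 h𝔐
  obtain ⟨U, hU, hE⟩ := Groth.L18.FreeNearLevels.exists_open _ hF (fun n => Groth.L29.LocFree.of_iso
    ({ hom := e.inv.app n, inv := e.hom.app n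
       hom_inv_id := congrFun (congrArg FSch.ModSys.Hom.app e.inv_hom_id) n
       inv_hom_id := congrFun (congrArg FSch.ModSys.Hom.app e.hom_inv_id) n } :
      𝔐.F n ≅ (Scheme.Modules.pullback (FSch.completionToX X (PicF2.zeroScheme L s) n)).obj F) (h𝔐 n))
  exact ⟨U, F, hU, hF, hE, ⟨e⟩⟩

end Groth.L13.AlgzSec
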