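import Groth.Agent.L13.AlgzSec.Setup
import Groth.Agent.L17.IdealMulExtend
import Groth.Agent.L18.OffAffineVanish

/-!
# The quotient of the structure sheaf by the torsion along a section
-/

set_option autoImplicit false
set_option linter.style.haveILetI false
set_option linter.unusedSectionVars false
set_option backward.isDefEq.respectTransparency false
set_option backward.isDefEq.respectTransparency.types false
universe u

open CategoryTheory CategoryTheory.Limits AlgebraicGeometry Opposite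
open scoped TensorProduct

noncomputable section

namespace Groth.L13.AlgzSec

open Groth.L00.Tensor (tensorMap tensorIso tensorComm tensorUnitRight tensorLeftF tensorRightF tensorFlipIso)
open Groth.L22.Reg (sm sm_comp sm_id sm_map_sub sm_map_zero sm_zero)
open Groth.L18.LefTower (sm_smul tensE tensE_natural surjective_sm injective_sm)
open Groth.L20.SeeNormal (sI)

variable {X : Scheme.{u}}

/-- The torsion along an ideal stabilises uniformly. -/
theorem exists_torsion_bound [IsNoetherian X] (I : X.IdealSheafData) :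
    ∃ N : ℕ, ∀ (x : X) (t : X.presheaf.stalk x), sI I x = Ideal.span {t} →
      ∀ m, N ≤ m → ∀ c : X.presheaf.stalk x, t ^ m * c = 0 → t ^ N * c = 0 := by
  classical
  obtain ⟨T, hT⟩ := Groth.L17.IdealMulExtend.exists_cover X
  have key : ∀ V : X.affineOpens, ∃ n, ∀ m, n ≤ m → ∀ a : Γ(X, V.1),
      (∀ j ∈ I.ideal V ^ m, j * a = 0) → ∀ j ∈ I.ideal V ^ n, j * a = 0 := by
    intro V
    haveI : IsNoetherianRing Γ(X, V.1) := IsLocallyNoetherian.component_noetherian V
    let A : ℕ →o Submodule Γ(X, V.1) Γ(X, V.1) :=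
      ⟨fun m => Submodule.annihilator (I.ideal V ^ m), fun a b hab =>
        Submodule.annihilator_mono (Ideal.pow_le_pow_right hab)⟩
    obtain ⟨n, hn⟩ := monotone_stabilizes_iff_noetherian.2
      (inferInstance : IsNoetherian Γ(X, V.1) Γ(X, V.1)) A
    refine ⟨n, fun m hm a ha j hj => ?_⟩
    have h1 : a ∈ A m := Submodule.mem_annihilator.2 fun z hz => by rw [smul_eq_mul, mul_comm]; exact ha z hz
    rw [← hn m hm] at h1
    rw [mul_comm]
    exact Submodule.mem_annihilator.1 h1 j hj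
  choose n hn using key
  refine ⟨T.sup n, fun x t ht m hm c hc => ?_⟩
  obtain ⟨V, hVT, hxV⟩ := hT x
  haveI : IsNoetherianRing Γ(X, V.1) := IsLocallyNoetherian.component_noetherian V
  letI := X.presheaf.algebra_section_stalk ⟨x, hxV⟩
  haveI := V.2.isLocalization_stalk ⟨x, hxV⟩
  let p := (V.2.primeIdealOf ⟨x, hxV⟩).asIdeal
  obtain ⟨⟨a, w⟩, haw⟩ := IsLocalization.surj p.primeCompl c
  have hmap : ∀ e : ℕ, (I.ideal V ^ e).map (algebraMap Γ(X, V.1) (X.presheaf.stalk x)) = Ideal.span {t ^ e} :=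
    fun e => by
      rw [Ideal.map_pow]
      show (I.ideal V).map (X.presheaf.germ V.1 x hxV).hom ^ e = _
      rw [← Groth.L20.SeeNormal.sI_eq I V hxV, ht, Ideal.span_singleton_pow]
  obtain ⟨G, hG⟩ := (IsNoetherian.noetherian (I.ideal V ^ m) : Submodule.FG _)
  have hg : ∀ g ∈ G, ∃ u : p.primeCompl, (u : Γ(X, V.1)) * (g * a) = 0 := fun g hg => by
    have h1 : algebraMap Γ(X, V.1) (X.presheaf.stalk x) g ∈ Ideal.span {t ^ m} :=
      hmap m ▸ Ideal.mem_map_of_mem _ (hG ▸ Submodule.subset_span hg)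
    obtain ⟨d, hd⟩ := Ideal.mem_span_singleton'.1 h1
    have h2 : algebraMap Γ(X, V.1) (X.presheaf.stalk x) (g * a) = 0 := by
      rw [map_mul, ← hd, ← haw, show d * t ^ m * (c * algebraMap _ _ (w : Γ(X, V.1))) =
        d * (t ^ m * c) * algebraMap _ _ (w : Γ(X, V.1)) by ring, hc, mul_zero, zero_mul]
    exact (IsLocalization.map_eq_zero_iff p.primeCompl _ _).1 h2
  choose u hu using hg
  let U : p.primeCompl := ∏ g ∈ G.attach, u g.1 g.2
  have hUa : ∀ j ∈ I.ideal V ^ m, j * ((U : Γ(X, V.1)) * a) = 0 := by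
    intro j hj
    rw [← hG] at hj
    induction hj using Submodule.span_induction with
    | mem g hg =>
      obtain ⟨v, hv⟩ : u g hg ∣ U := Finset.dvd_prod_of_mem (fun g : G => u g.1 g.2) (G.mem_attach ⟨g, hg⟩)
      rw [hv, Submonoid.coe_mul, show g * ((u g hg : Γ(X, V.1)) * v * a) = (u g hg : Γ(X, V.1)) * (g * a) * v by ring,
        hu g hg, zero_mul]
    | zero => rw [zero_mul]
    | add y z _ _ hy hz => rw [add_mul, hy, hz, add_zero]
    | smul r y _ hy => rw [smul_eq_mul, mul_assoc, hy, mul_zero]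
  have h3 := hn V m (le_trans (Finset.le_sup hVT) hm) _ hUa
  have hU : IsUnit (algebraMap Γ(X, V.1) (X.presheaf.stalk x) U) := IsLocalization.map_units _ U
  have hw : IsUnit (algebraMap Γ(X, V.1) (X.presheaf.stalk x) w) := IsLocalization.map_units _ w
  have h4 : ∀ z ∈ Ideal.span {t ^ n V}, z * c = 0 := by
    rw [← hmap (n V)]
    intro z hz
    induction hz using Submodule.span_induction with
    | mem z hz =>
      obtain ⟨j, hj, rfl⟩ := hz
      have := congrArg (algebraMap Γ(X, V.1) (X.presheaf.stalk x)) (h3 j hj)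
      rw [map_zero, map_mul, map_mul, ← haw] at this
      refine (hU.mul hw).mul_left_eq_zero.1 ?_
      rw [← this]
      ring
    | zero => rw [zero_mul]
    | add y z _ _ hy hz => rw [add_mul, hy, hz, add_zero]
    | smul r y _ hy => rw [smul_eq_mul, mul_assoc, hy, mul_zero]
  obtain ⟨δ, hδ⟩ := Nat.exists_eq_add_of_le (Finset.le_sup (f := n) hVT)
  rw [hδ, pow_add, mul_comm (t ^ n V), mul_assoc, h4 _ (Ideal.mem_span_singleton_self _), mul_zero]

namespace Sec

variable {I : X.IdealSheafData} (S : Sec I)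

/-- A quotient of `O` by the torsion along the section. -/
structure TF where
  /-- the quotient -/
  O' : X.Modules
  /-- the projection -/
  p : Coh.structureModule X ⟶ O'
  epi_p : Epi p
  /-- the exponent -/
  N : ℕ
  bound : ∀ (x : X) (t : X.presheaf.stalk x), sI I x = Ideal.span {t} →
    ∀ m, N ≤ m → ∀ c : X.presheaf.stalk x, t ^ m * c = 0 → t ^ N * c = 0
  ker : ∀ (x : X) (t : X.presheaf.stalk x), sI I x = Ideal.span {t} →
    ∀ v, sm x p v = 0 ↔ t ^ N • v = 0
  coh : Coh.IsCoh O'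

include S in
theorem exists_tf [IsNoetherian X] : Nonempty (TF (I := I)) := by
  obtain ⟨N, hN⟩ := exists_torsion_bound I
  obtain ⟨w⟩ := S.nonempty_Pw_twist (Coh.structureModule X) N 0
  obtain ⟨z⟩ : Nonempty ((tensorRightF (CohB1.tensorPow S.L N)).obj ((S.Pw N).obj (Coh.structureModule X)) ≅
      Coh.structureModule X) := by
    obtain ⟨g⟩ : Nonempty ((S.Pw N).obj (Coh.structureModule X) ≅ (S.Pw (0 + N)).obj (Coh.structureModule X)) :=
      ⟨eqToIso (by rw [Nat.zero_add])⟩
    exact ⟨(tensorRightF _).mapIso g ≪≫ w⟩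
  let O := Coh.structureModule X
  let T := tensorRightF (CohB1.tensorPow S.L N)
  let p₀ : O ⟶ T.obj O := z.inv ≫ T.map (S.μ N O)
  haveI : IsLocallyNoetherian X := inferInstance
  have hO : Coh.IsCoh O := Groth.L16.CohClosedPush.isCoh_structure
  have hTO : Coh.IsCoh (T.obj O) :=
    Groth.L03.Euler.isCoh_tensor (Groth.L18.Ample.isInvertible_tensorPow S.invL N) hO
  haveI := hO.1
  haveI := hTO.1
  refine ⟨⟨Abelian.image p₀, Abelian.factorThruImage p₀, inferInstance, N, hN, fun x t ht v => ?_, ?_⟩⟩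
  · have h1 : sm x (Abelian.factorThruImage p₀) v = 0 ↔ sm x p₀ v = 0 := by
      conv_rhs => rw [← Abelian.image.fac p₀, sm_comp]
      exact ⟨fun h => by rw [h, sm_map_zero], fun h => injective_sm (Abelian.image.ι p₀) x (by rw [h, sm_map_zero])⟩
    rw [h1]
    obtain ⟨e, he⟩ : ∃ (e : (CohB1.tensorPow S.L N).presheaf.stalk x),
        Function.Bijective fun a : X.presheaf.stalk x => a • e := by
      obtain ⟨W, a, hxW, ha⟩ := Groth.L18.Frame.exists_frame (Groth.L18.Ample.isInvertible_tensorPow S.invL N) x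
      exact ⟨_, Groth.L03.Euler.bijective_toSpanSingleton_germ ha hxW⟩
    let Tl := tensorLeftF (CohB1.tensorPow S.L N)
    let φ : ∀ G : X.Modules, (Groth.L00.Stk.F X x).obj G ≃ₗ[X.presheaf.stalk x]
        (Groth.L00.Stk.F X x).obj (T.obj G) := fun G =>
      tensE x _ e he G ≪≫ₗ ((Groth.L00.Stk.F X x).mapIso ((tensorFlipIso _).app G).symm).toLinearEquiv
    have hφ : ∀ {G G' : X.Modules} (g : G ⟶ G') u, sm x (T.map g) (φ G u) = φ G' (sm x g u) := fun {G G'} g u => by
      show sm x (T.map g) (sm x ((tensorFlipIso _).inv.app G) (tensE x _ e he G u)) =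
        sm x ((tensorFlipIso _).inv.app G') (tensE x _ e he G' (sm x g u))
      rw [← sm_comp, ← (tensorFlipIso (CohB1.tensorPow S.L N)).inv.naturality g, sm_comp]
      refine congrArg (sm x _) ?_
      show sm x (tensorMap (𝟙 _) g) _ = _
      rw [tensE_natural x (𝟙 _) e he e he 1 ((sm_id x _).trans (one_smul _ e).symm), one_smul]
    obtain ⟨β, -, hβ⟩ := S.exists_equiv_μ_eq_zero x N
    let A : (Groth.L00.Stk.F X x).obj O ≃ₗ[X.presheaf.stalk x] (Groth.L00.Stk.F X x).obj O :=
      β O ≪≫ₗ φ _ ≪≫ₗ ((Groth.L00.Stk.F X x).mapIso z).toLinearEquiv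
    obtain ⟨u, rfl⟩ := A.surjective v
    have h2 : sm x p₀ (A u) = φ _ (sm x (S.μ N O) (β O u)) := by
      rw [← hφ, sm_comp]
      refine congrArg (sm x (T.map (S.μ N O))) ?_
      show sm x z.inv (sm x z.hom (φ _ (β O u))) = _
      rw [← sm_comp, z.hom_inv_id, sm_id]
    rw [h2, LinearEquiv.map_eq_zero_iff, hβ t ht, ← map_smul, LinearEquiv.map_eq_zero_iff]
  · haveI := (Groth.L16.CohKernel.isCoh_kernel_cokernel hO hTO p₀).2.1
    exact Groth.L16.CohSupport.isCoh_kernel hTO (cokernel.π p₀)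

namespace TF

variable {S} (Q : TF (I := I))

/-- `G ↦ G ⊗ O'`. -/
def Φ : X.Modules ⥤ X.Modules := tensorRightF Q.O'

/-- `G ⟶ G ⊗ O'`. -/
def π (G : X.Modules) : G ⟶ Q.Φ.obj G := (tensorUnitRight G).inv ≫ tensorMap (𝟙 G) Q.p

/-- The torsion at a point. -/
def K (x : X) : Ideal (X.presheaf.stalk x) where
  carrier := {c | ∀ t, sI I x = Ideal.span {t} → t ^ Q.N * c = 0}
  zero_mem' := fun _ _ => mul_zero _
  add_mem' := fun ha hb t ht => by rw [mul_add, ha t ht, hb t ht, add_zero]
  smul_mem' := fun r a ha t ht => by rw [smul_eq_mul, mul_left_comm, ha t ht, mul_zero]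

theorem mem_K_iff {x : X} {t : X.presheaf.stalk x} (ht : sI I x = Ideal.span {t}) (c : X.presheaf.stalk x) :
    c ∈ Q.K x ↔ t ^ Q.N * c = 0 := by
  refine ⟨fun h => h t ht, fun h r hr => ?_⟩
  obtain ⟨u, hu⟩ := mul_of_span hr ht Q.N
  rw [hu, mul_right_comm, h, zero_mul]

/-- The stalk of `G ⟶ G ⊗ O'`. -/
theorem π_stalk (x : X) (hx : ∃ t, sI I x = Ideal.span {t}) (G : X.Modules) :
    Function.Surjective (sm x (Q.π G)) ∧
      ∀ v, sm x (Q.π G) v = 0 ↔ v ∈ Q.K x • (⊤ : Submodule (X.presheaf.stalk x) ((Groth.L00.Stk.F X x).obj G)) := by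
  obtain ⟨t, ht⟩ := hx
  haveI := Q.epi_p
  let R := X.presheaf.stalk x
  let st := Groth.L00.Stk.F X x
  let O := Coh.structureModule X
  let eO : R ≃ₗ[R] st.obj O :=
    LinearEquiv.ofBijective (LinearMap.toSpanSingleton R _ (Groth.L21.RR.one X x)) (Groth.L21.RR.bijective_smul_one x)
  let q : R →ₗ[R] st.obj Q.O' := (st.map Q.p).hom ∘ₗ eO.toLinearMap
  have hq : Function.Surjective q := (surjective_sm Q.p x).comp eO.surjective
  have hqk : LinearMap.ker q = Q.K x := Submodule.ext fun c => by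
    rw [LinearMap.mem_ker, Q.mem_K_iff ht]
    refine (Q.ker x t ht (eO c)).trans ?_
    rw [← map_smul, LinearEquiv.map_eq_zero_iff, smul_eq_mul]
  let g := q.lTensor (st.obj G)
  have hg : Function.Surjective g := LinearMap.lTensor_surjective _ hq
  have hex : Function.Exact ((Q.K x).subtype.lTensor (st.obj G)) g := by
    refine lTensor_exact (st.obj G) ?_ hq
    rw [LinearMap.exact_iff, Submodule.range_subtype, hqk]
  -- the comparison with the stalk
  let εO : st.obj G ⊗[R] R ≃ₗ[R] st.obj (CohB1.tensorMod G O) :=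
    TensorProduct.congr (LinearEquiv.refl R _) eO ≪≫ₗ (Groth.L00.Stk.τ x G O).toLinearEquiv
  let θ := εO ≪≫ₗ (st.mapIso (tensorUnitRight G)).toLinearEquiv
  let τ' := (Groth.L00.Stk.τ x G Q.O').toLinearEquiv
  have hθ : ∀ z, sm x (Q.π G) (θ z) = τ' (g z) := fun z => by
    show sm x ((tensorUnitRight G).inv ≫ tensorMap (𝟙 G) Q.p) (sm x (tensorUnitRight G).hom (εO z)) = _
    rw [← sm_comp, Iso.hom_inv_id_assoc]
    refine (congr($(Groth.L00.Stk.τ_natural x (𝟙 G) Q.p) (TensorProduct.congr (LinearEquiv.refl R _) eO z))).symm.trans ?_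
    refine congrArg τ' ?_
    induction z using TensorProduct.induction_on with
    | zero => simp
    | tmul a b =>
      show (st.map (𝟙 G)).hom a ⊗ₜ[R] q b = a ⊗ₜ[R] q b
      rw [st.map_id]; rfl
    | add a b ha hb => simp only [map_add, ha, hb]
  refine ⟨fun w => ?_, fun v => ?_⟩
  · obtain ⟨w, rfl⟩ := τ'.surjective w
    obtain ⟨z, rfl⟩ := hg w
    exact ⟨θ z, hθ z⟩
  obtain ⟨z, rfl⟩ := θ.surjective v
  rw [hθ]
  refine (LinearEquiv.map_eq_zero_iff τ').trans ?_
  constructor
  · intro h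
    obtain ⟨y, rfl⟩ := (hex z).1 h
    induction y using TensorProduct.induction_on with
    | zero => simp
    | tmul a b =>
      rw [show (Q.K x).subtype.lTensor (st.obj G) (a ⊗ₜ[R] b) = (b : R) • (a ⊗ₜ[R] (1 : R)) by
        rw [LinearMap.lTensor_tmul, TensorProduct.smul_tmul', TensorProduct.smul_tmul, Submodule.subtype_apply,
          smul_eq_mul, mul_one], map_smul]
      exact Submodule.smul_mem_smul b.2 Submodule.mem_top
    | add a b ha hb =>
      rw [map_add, map_add]
      exact add_mem (ha (by rw [(hex _).2 ⟨a, rfl⟩])) (hb (by rw [(hex _).2 ⟨b, rfl⟩]))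
  · intro h
    suffices ∀ w ∈ Q.K x • (⊤ : Submodule R (st.obj G)), g (θ.symm w) = 0 by simpa using this _ h
    intro w hw
    refine Submodule.smul_induction_on hw (fun c hc a _ => ?_) fun a b ha hb => by rw [map_add, map_add, ha, hb, add_zero]
    rw [map_smul, map_smul]
    obtain ⟨y, hy⟩ := (TensorProduct.rid R (st.obj G)).symm.surjective (θ.symm a)
    rw [← hy, ← map_smul g, TensorProduct.rid_symm_apply, ← TensorProduct.tmul_smul, smul_eq_mul, mul_one,
      LinearMap.lTensor_tmul, show q c = 0 from (hqk.ge hc : c ∈ LinearMap.ker q), TensorProduct.tmul_zero]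

theorem π_natural {G G' : X.Modules} (g : G ⟶ G') : g ≫ Q.π G' = Q.π G ≫ Q.Φ.map g := by
  refine (cancel_epi (tensorUnitRight G).hom).1 ?_
  have h : tensorMap g (𝟙 (Coh.structureModule X)) ≫ (tensorUnitRight G').hom = (tensorUnitRight G).hom ≫ g :=
    Groth.L22.Reg.tensorUnitRight_natural g
  show (tensorUnitRight G).hom ≫ g ≫ (tensorUnitRight G').inv ≫ tensorMap (𝟙 G') Q.p =
    (tensorUnitRight G).hom ≫ ((tensorUnitRight G).inv ≫ tensorMap (𝟙 G) Q.p) ≫ tensorMap g (𝟙 Q.O')
  rw [← reassoc_of% h, Iso.hom_inv_id_assoc, Category.assoc, Iso.hom_inv_id_assoc,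
    ← Groth.L00.Tensor.tensorMap_comp, ← Groth.L00.Tensor.tensorMap_comp]
  simp

theorem isCoh_Φ [IsLocallyNoetherian X] {G : X.Modules} (hG : Coh.IsCoh G) : Coh.IsCoh (Q.Φ.obj G) :=
  Groth.L15.Ref.isCoh_tensorMod hG Q.coh

theorem depth_O' {x : X} (hx : x ∉ I.support) (hgen : ∃ t, sI I x = Ideal.span {t}) :
    LocCoh.depth (X.presheaf.stalk x) (Q.O'.presheaf.stalk x) =
      LocCoh.depth (X.presheaf.stalk x) (X.presheaf.stalk x) := by
  obtain ⟨t, ht⟩ := hgen
  haveI := Q.epi_p
  have hu : IsUnit t := by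
    obtain ⟨V, hV, hxV, -⟩ := exists_isAffineOpen_mem_and_subset (x := x) (U := ⊤) trivial
    by_contra hn
    refine hx ((Scheme.IdealSheafData.mem_support_iff_of_mem (U := ⟨V, hV⟩) hxV).2 ?_)
    rw [Scheme.mem_zeroLocus_iff]
    intro a ha hxa
    refine hn (isUnit_of_mul_isUnit_right (x := (Ideal.mem_span_singleton'.1 (ht ▸
      (Groth.L20.SeeNormal.sI_eq I ⟨V, hV⟩ hxV ▸ Ideal.mem_map_of_mem _ ha :
        X.presheaf.germ V x hxV a ∈ sI I x))).choose) ?_)
    rw [(Ideal.mem_span_singleton'.1 (ht ▸ (Groth.L20.SeeNormal.sI_eq I ⟨V, hV⟩ hxV ▸ Ideal.mem_map_of_mem _ ha :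
        X.presheaf.germ V x hxV a ∈ sI I x))).choose_spec]
    exact (X.mem_basicOpen a x hxV).1 hxa
  let st := Groth.L00.Stk.F X x
  have hb : Function.Bijective (st.map Q.p).hom :=
    ⟨(injective_iff_map_eq_zero _).2 fun v hv => (hu.pow Q.N).smul_eq_zero.1 ((Q.ker x t ht v).1 hv),
      surjective_sm Q.p x⟩
  let e := (LinearEquiv.ofBijective _ hb).symm.trans (Groth.L15.Ref.strE x).symm
  exact L02.FibDepth.Semi.depth_eq
    { φ := RingHom.id _
      surj := Function.surjective_id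
      e := e.toAddEquiv
      map_smul := fun r z => e.map_smul r z }

end TF

end Sec

end Groth.L13.AlgzSec
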