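import Groth.Agent.L13.AlgzSec.Kill
import Groth.Agent.L17.IdealMulSec

/-!
# Reductions along the powers of a principal ideal
-/

set_option autoImplicit false
set_option linter.style.haveILetI false
set_option linter.unusedSectionVars false
set_option backward.isDefEq.respectTransparency false
set_option backward.isDefEq.respectTransparency.types false
universe u

open CategoryTheory CategoryTheory.Limits AlgebraicGeometry Opposite

noncomputable section

namespace Groth.L13.AlgzSec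

open Groth.L00.Tensor (tensorMap tensorIso tensorComm tensorLeftF tensorRightF tensorFlipIso)
open Groth.L22.Reg (sm sm_comp sm_id sm_map_sub sm_map_zero sm_zero sm_map_add)
open Groth.L18.LefTower (sm_smul surjective_sm injective_sm epi_of_sm mono_of_sm exists_kernel_preimage tensE tensE_natural)
open Groth.L20.SeeNormal (sI)
open Groth.L17.IdealMulSec (η η_app_eq_zero_iff)
open Groth.L18.Frame (rs)

variable {X : Scheme.{u}} {I : X.IdealSheafData}

variable (I) in
/-- `π` is on all stalks the quotient by the `l`-th power of the ideal. -/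
def IsRed (l : ℕ) {E P : X.Modules} (π : E ⟶ P) : Prop :=
  (∀ x, Function.Surjective (sm x π)) ∧
    ∀ (x : X) (t : X.presheaf.stalk x), sI I x = Ideal.span {t} →
      ∀ v, sm x π v = 0 ↔ ∃ w, t ^ l • w = v

theorem mem_sI_pow {x : X} {t : X.presheaf.stalk x} (ht : sI I x = Ideal.span {t}) (l : ℕ) :
    sI (I ^ l) x = Ideal.span {t ^ l} := by
  rw [Groth.L20.Infinitesimal.sI_pow, ht, Ideal.span_singleton_pow]

/-- A module killed by a sheaf of ideals on stalks. -/
theorem smul_push_sub (J : X.IdealSheafData) (M : J.subscheme.Modules) (x : X) {c : X.presheaf.stalk x}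
    (hc : c ∈ sI J x) (v : (Groth.L00.Stk.F X x).obj ((Scheme.Modules.pushforward J.subschemeι).obj M)) :
    c • v = 0 := smul_push_subscheme J M x hc v

/-- The unit of a thickening is a reduction. -/
theorem isRed_η (l : ℕ) (E : X.Modules) [Coh.IsQCoh E] : IsRed I l (η (I ^ l) E) := by
  haveI : Epi (η (I ^ l) E) := Groth.L22.Reg.epi_unit (I ^ l).subschemeι E
  refine ⟨fun x => surjective_sm _ x, fun x t ht v => ⟨fun hv => ?_, ?_⟩⟩
  · let G := E
    let Q := (Scheme.Modules.pushforward (I ^ l).subschemeι).obj ((Scheme.Modules.pullback (I ^ l).subschemeι).obj E)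
    obtain ⟨U, hxU, y, rfl⟩ := TopCat.Presheaf.exists_germ_eq (F := G.presheaf) (x := x) v
    have h0 : Q.presheaf.germ U x hxU ((η (I ^ l) E).app U y) = Q.presheaf.germ U x hxU 0 := by
      rw [map_zero]
      exact (TopCat.Presheaf.stalkFunctor_map_germ_apply U x hxU _ y).symm.trans hv
    obtain ⟨U', hxU', i, j, hij⟩ := TopCat.Presheaf.germ_eq _ x hxU hxU _ _ h0
    rw [map_zero] at hij
    obtain ⟨W, hW, hxW, hWU'⟩ := exists_isAffineOpen_mem_and_subset (x := x) (U := U') hxU'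
    have hWU : W ≤ U := fun z hz => i.le (hWU' hz)
    have hy : (η (I ^ l) E).app W (rs G hWU y) = 0 := by
      refine (Groth.L19.ProjBdl.app_rs (η (I ^ l) E) hWU y).trans ?_
      show Q.presheaf.map (homOfLE hWU).op _ = 0
      rw [show (homOfLE hWU).op = i.op ≫ (homOfLE hWU').op from Subsingleton.elim _ _, Functor.map_comp,
        ConcreteCategory.comp_apply, hij, map_zero]
    have hmem := (η_app_eq_zero_iff (I ^ l) E hW _).1 hy
    have key : ∀ m ∈ (I ^ l).ideal ⟨W, hW⟩ • (⊤ : Submodule Γ(X, W) Γ(G, W)),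
        ∃ w : (Groth.L00.Stk.F X x).obj G, t ^ l • w = G.presheaf.germ W x hxW m := by
      intro m hm
      refine Submodule.smul_induction_on hm (fun r hr m _ => ?_) fun a b ⟨wa, ha⟩ ⟨wb, hb⟩ => ⟨wa + wb, ?_⟩
      · have h1 : X.presheaf.germ W x hxW r ∈ Ideal.span {t ^ l} := by
          rw [← mem_sI_pow ht, Groth.L20.SeeNormal.sI_eq _ ⟨W, hW⟩ hxW]
          exact Ideal.mem_map_of_mem _ hr
        obtain ⟨c, hc⟩ := Ideal.mem_span_singleton'.1 h1
        refine ⟨c • (show (Groth.L00.Stk.F X x).obj G from G.presheaf.germ W x hxW m), ?_⟩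
        rw [Groth.L20.ModStalk.germ_smul, smul_smul, mul_comm, hc]
      · rw [smul_add, ha, hb, map_add]
    obtain ⟨w, hw⟩ := key _ hmem
    exact ⟨w, hw.trans (TopCat.Presheaf.germ_res_apply G.presheaf (homOfLE hWU) x hxW y)⟩
  · rintro ⟨w, rfl⟩
    rw [sm_smul]
    exact smul_push_sub _ _ x (mem_sI_pow ht l ▸ Ideal.mem_span_singleton_self _) _

/-- Reductions are unique. -/
theorem IsRed.exists_iso (hgen : ∀ x, ∃ t, sI I x = Ideal.span {t}) {l : ℕ} {E P P' : X.Modules} {π : E ⟶ P}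
    {π' : E ⟶ P'} (h : IsRed I l π) (h' : IsRed I l π') : ∃ e : P ≅ P', π ≫ e.hom = π' := by
  haveI := epi_of_sm π h.1
  haveI := epi_of_sm π' h'.1
  have hz : ∀ {A B : X.Modules} (a : E ⟶ A) (b : E ⟶ B), IsRed I l a → IsRed I l b → kernel.ι a ≫ b = 0 :=
    fun a b ha hb => Groth.L21.Mod.hom_ext_stalk fun x => by
      ext z
      show sm x (kernel.ι a ≫ b) z = sm x (0 : kernel a ⟶ _) z
      obtain ⟨t, ht⟩ := hgen x
      obtain ⟨w, hw⟩ := (ha.2 x t ht (sm x (kernel.ι a) z)).1 (by rw [← sm_comp, kernel.condition, sm_zero])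
      rw [sm_comp, sm_zero]
      exact (hb.2 x t ht _).2 ⟨w, hw⟩
  refine ⟨⟨Abelian.epiDesc π π' (hz π π' h h'), Abelian.epiDesc π' π (hz π' π h' h), ?_, ?_⟩,
    Abelian.comp_epiDesc _ _ _⟩
  · rw [← cancel_epi π, ← Category.assoc, Abelian.comp_epiDesc, Abelian.comp_epiDesc, Category.comp_id]
  · rw [← cancel_epi π', ← Category.assoc, Abelian.comp_epiDesc, Abelian.comp_epiDesc, Category.comp_id]

/-- Reductions survive twists. -/
theorem IsRed.tensorLeft {l : ℕ} {E P : X.Modules} {π : E ⟶ P} (h : IsRed I l π) {W : X.Modules}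
    (hW : PicF.IsInvertible W) : IsRed I l ((tensorLeftF W).map π) := by
  have key : ∀ x, ∃ φ : ∀ G : X.Modules, (Groth.L00.Stk.F X x).obj G ≃ₗ[X.presheaf.stalk x]
      (Groth.L00.Stk.F X x).obj ((tensorLeftF W).obj G),
      ∀ v, sm x ((tensorLeftF W).map π) (φ E v) = φ P (sm x π v) := fun x => by
    obtain ⟨U, a, hxU, ha⟩ := Groth.L18.Frame.exists_frame hW x
    refine ⟨fun G => tensE x W _ (Groth.L03.Euler.bijective_toSpanSingleton_germ ha hxU) G, fun v => ?_⟩
    show sm x (tensorMap (𝟙 W) π) _ = _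
    exact (tensE_natural x (𝟙 W) _ _ _ (Groth.L03.Euler.bijective_toSpanSingleton_germ ha hxU) 1
      ((sm_id x _).trans (one_smul _ _).symm) π v).trans (by rw [one_smul]; rfl)
  refine ⟨fun x w => ?_, fun x t ht v => ?_⟩ <;> obtain ⟨φ, hφ⟩ := key x
  · obtain ⟨w, rfl⟩ := (φ P).surjective w
    obtain ⟨v, rfl⟩ := h.1 x w
    exact ⟨φ E v, hφ v⟩
  · obtain ⟨v, rfl⟩ := (φ E).surjective v
    rw [hφ, LinearEquiv.map_eq_zero_iff, h.2 x t ht v]
    constructor
    · rintro ⟨w, rfl⟩; exact ⟨φ E w, (map_smul _ _ _).symm⟩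
    · rintro ⟨w, hw⟩
      obtain ⟨w, rfl⟩ := (φ E).surjective w
      exact ⟨w, (φ E).injective (by rw [map_smul, hw])⟩

namespace Sec

variable (S : Sec I) (Q : TF (I := I))

/-- Modulo torsion the section is regular on bundles. -/
theorem regular_Φ {E : X.Modules} (hE : FlatMod.IsFinLocFree E) (x : X) {t : X.presheaf.stalk x}
    (ht : sI I x = Ideal.span {t}) (l : ℕ) (v : (Groth.L00.Stk.F X x).obj (Q.Φ.obj E)) (hv : t ^ l • v = 0) :
    v = 0 := by
  let R := X.presheaf.stalk x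
  obtain ⟨w, rfl⟩ := (Q.π_stalk x ⟨t, ht⟩ E).1 v
  rw [← sm_smul] at hv
  let st := (Groth.L00.Stk.F X x).obj E
  haveI : Module.Free R st := Groth.L18.LFP.free_stalk E hE x
  haveI : Module.Finite R st := Groth.L18.LFP.finite_stalk E ((Groth.L18.LFP.isFP_and_free_iff E).2 hE).1 x
  let B := Module.finBasis R st
  obtain ⟨c, hc, hc'⟩ := exists_coeff (fun i => B i) (fun z => ⟨fun i => B.repr z i, B.sum_repr z⟩) _
    (((Q.π_stalk x ⟨t, ht⟩ E).2 _).1 hv)
  refine ((Q.π_stalk x ⟨t, ht⟩ E).2 _).2 ?_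
  rw [← B.sum_repr w]
  refine Submodule.sum_mem _ fun i _ => Submodule.smul_mem_smul ?_ Submodule.mem_top
  have h1 : c i = t ^ l * B.repr w i := by
    have := congrArg (fun z => B.repr z i) hc'
    simpa [map_sum, Finsupp.single_apply] using this
  rw [Q.mem_K_iff ht]
  refine Q.bound x t ht (Q.N + l) (Nat.le_add_right _ _) _ ?_
  rw [pow_add, mul_assoc, ← h1]
  exact hc i t ht

/-- Modulo torsion a reduction of a bundle has the expected resolution. -/
theorem exists_shortExact_red {l : ℕ} {E P : X.Modules} {π : E ⟶ P} (h : IsRed I l π)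
    (hE : FlatMod.IsFinLocFree E) :
    ∃ w, (ShortComplex.mk (S.μ l (Q.Φ.obj E)) (Q.Φ.map π) w).ShortExact := by
  let E' := Q.Φ.obj E
  let g := Q.Φ.map π
  have hsurj : ∀ x, Function.Surjective (sm x g) := fun x v => by
    obtain ⟨p, rfl⟩ := (Q.π_stalk x (S.exists_gen x) P).1 v
    obtain ⟨e, rfl⟩ := h.1 x p
    exact ⟨sm x (Q.π E) e, by rw [← sm_comp, ← Q.π_natural, sm_comp]⟩
  have hker : ∀ x t, sI I x = Ideal.span {t} → ∀ v, sm x g v = 0 ↔ ∃ w, t ^ l • w = v := fun x t ht v => by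
    obtain ⟨e, rfl⟩ := (Q.π_stalk x ⟨t, ht⟩ E).1 v
    rw [← sm_comp, ← Q.π_natural, sm_comp]
    constructor
    · intro h0
      have h1 := ((Q.π_stalk x ⟨t, ht⟩ P).2 _).1 h0
      obtain ⟨k, hk, hk'⟩ : ∃ k ∈ Q.K x • (⊤ : Submodule (X.presheaf.stalk x) ((Groth.L00.Stk.F X x).obj E)),
          sm x π k = sm x π e := by
        refine Submodule.smul_induction_on h1 (fun c hc a _ => ?_) fun a b ⟨w, hw, ha⟩ ⟨w', hw', hb⟩ => ?_
        · obtain ⟨a, rfl⟩ := h.1 x a
          exact ⟨c • a, Submodule.smul_mem_smul hc Submodule.mem_top, sm_smul _ _ _⟩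
        · exact ⟨w + w', add_mem hw hw', by rw [sm_map_add, ha, hb]⟩
      obtain ⟨w, hw⟩ := (h.2 x t ht (e - k)).1 (by rw [sm_map_sub, hk', sub_self])
      exact ⟨sm x (Q.π E) w, by rw [← sm_smul, hw, sm_map_sub, ((Q.π_stalk x ⟨t, ht⟩ E).2 k).2 hk, sub_zero]⟩
    · rintro ⟨w, hw⟩
      obtain ⟨w, rfl⟩ := (Q.π_stalk x ⟨t, ht⟩ E).1 w
      rw [← sm_smul] at hw
      have h2 : sm x (Q.π P) (sm x π (t ^ l • w)) = sm x (Q.π P) (sm x π e) := by
        rw [← sm_comp, ← sm_comp, Q.π_natural, sm_comp, sm_comp, hw]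
      rw [← h2, (h.2 x t ht _).2 ⟨w, rfl⟩, sm_map_zero]
  have w : S.μ l E' ≫ g = 0 := by
    refine Groth.L21.Mod.hom_ext_stalk fun x => ?_
    ext z
    show sm x (S.μ l E' ≫ g) z = sm x (0 : (S.Pw l).obj E' ⟶ _) z
    obtain ⟨t, ht⟩ := S.exists_gen x
    rw [sm_comp, sm_zero]
    exact (hker x t ht _).2 ((S.exists_μ_eq_iff x ht l E' _).1 ⟨z, rfl⟩)
  haveI : Epi g := epi_of_sm g hsurj
  haveI : Mono (S.μ l E') := mono_of_sm _ fun x => by
    refine (injective_iff_map_eq_zero ((Groth.L00.Stk.F X x).map (S.μ l E')).hom).2 fun z hz => ?_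
    obtain ⟨t, ht⟩ := S.exists_gen x
    obtain ⟨β, -, hβ⟩ := S.exists_equiv_μ_eq_zero x l
    obtain ⟨z, rfl⟩ := (β E').surjective z
    rw [regular_Φ Q hE x ht l z ((hβ t ht E' z).1 hz), map_zero]
  let c := kernel.lift g (S.μ l E') w
  haveI : Epi c := epi_of_sm c fun x z => by
    obtain ⟨t, ht⟩ := S.exists_gen x
    obtain ⟨y, hy⟩ := (S.exists_μ_eq_iff x ht l E' _).2
      ((hker x t ht (sm x (kernel.ι g) z)).1 (by rw [← sm_comp, kernel.condition, sm_zero]))
    exact ⟨y, injective_sm (kernel.ι g) x (by rw [← sm_comp, kernel.lift_ι, hy])⟩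
  haveI : Mono (c ≫ kernel.ι g) := by rw [kernel.lift_ι]; infer_instance
  haveI : Mono c := mono_of_mono c (kernel.ι g)
  haveI : IsIso c := isIso_of_mono_of_epi c
  refine ⟨w, (ShortComplex.shortExact_iff_of_iso (S₁ := ShortComplex.mk (S.μ l E') g w)
    (S₂ := ShortComplex.mk (kernel.ι g) g (kernel.condition g))
    (ShortComplex.isoMk (asIso c) (Iso.refl _) (Iso.refl _) ?_ ?_)).2
    { exact := ShortComplex.exact_kernel _, mono_f := inferInstanceAs (Mono (kernel.ι g)), epi_g := ‹Epi g› }⟩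
  · exact (kernel.lift_ι g (S.μ l E') w).trans (Category.comp_id _).symm
  · exact (Category.id_comp _).trans (Category.comp_id _).symm

end Sec

end Groth.L13.AlgzSec
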