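import Groth.Agent.L18.LefTower
import Groth.Agent.L08.Cube.Inverse
import Groth.Agent.L16.Existence.Twist
import Groth.Agent.L16.Rees.Consequences
import Groth.Agent.L22.ZeroScheme
import Groth.Agent.L22.PDual.TwistExt

/-!
# Multiplication by the powers of a section of the inverse of an invertible module

`σ : M ⟶ O` with `M` invertible, its image the ideal `I`; `Pw a G = M^⊗a ⊗ G` and `μ a G : Pw a G ⟶ G`.
Nothing is assumed on zero divisors.
-/

set_option autoImplicit false
set_option linter.style.haveILetI false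
set_option linter.unusedSectionVars false
set_option backward.isDefEq.respectTransparency false
set_option backward.isDefEq.respectTransparency.types false
universe u

open CategoryTheory CategoryTheory.Limits AlgebraicGeometry Opposite

noncomputable section

namespace Groth.L13.AlgzSec

open Groth.L00.Tensor (tensorMap tensorMap_comp tensorIso tensorComm tensorAssoc tensorUnitLeft tensorUnitRight
  tensorLeftF tensorRightF tensorFlipIso)
open Groth.L22.Reg (sm sm_comp sm_id sm_map_sub sm_map_zero sm_zero)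
open Groth.L18.LefTower (sm_smul tensE tensE_natural)
open Groth.L20.SeeNormal (sI)

variable {X : Scheme.{u}}

/-- A map `σ : M ⟶ O` from an invertible module, with image the ideal `I`, and an inverse of `M`. -/
structure Sec (I : X.IdealSheafData) where
  /-- the invertible module -/
  M : X.Modules
  /-- its inverse -/
  L : X.Modules
  /-- the map -/
  σ : M ⟶ Coh.structureModule X
  inv : CohB1.tensorMod L M ≅ Coh.structureModule X
  invL : PicF.IsInvertible L
  gen : ∀ x : X, ∃ (e : M.presheaf.stalk x) (_ : Function.Bijective fun a : X.presheaf.stalk x => a • e)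
    (r : X.presheaf.stalk x), (show (Coh.structureModule X).presheaf.stalk x from sm x σ e) =
      r • Groth.L21.RR.one X x ∧ sI I x = Ideal.span {r}

/-- The ideal of the zero scheme at a point with a frame. -/
theorem exists_sI_zeroScheme {L : X.Modules} (hL : PicF.IsInvertible L) (s : Coh.structureModule X ⟶ L) (x : X) :
    ∃ (e : L.presheaf.stalk x) (_ : Function.Bijective fun a : X.presheaf.stalk x => a • e)
      (r : X.presheaf.stalk x), (show L.presheaf.stalk x from sm x s (Groth.L21.RR.one X x)) = r • e ∧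
        sI (PicF2.zeroScheme L s) x = Ideal.span {r} := by
  obtain ⟨W, e, hxW, he⟩ := Groth.L18.Frame.exists_frame hL x
  obtain ⟨V, hV, hxV, hVW⟩ := exists_isAffineOpen_mem_and_subset (x := x) (U := W) hxW
  have hVW' : V ≤ W := hVW
  have he' := he.mono hVW'
  obtain ⟨c, hc⟩ := he'.exists_coeff le_rfl
    (Groth.L18.Frame.rs L (le_top : V ≤ ⊤) (Groth.L18.GenLoc.secOf s))
  rw [Groth.L18.Frame.rs_self] at hc
  refine ⟨_, Groth.L03.Euler.bijective_toSpanSingleton_germ he' hxV, X.presheaf.germ V x hxV c, ?_, ?_⟩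
  · refine Eq.trans ?_ ((congrArg (L.presheaf.germ V x hxV) hc).symm.trans
      (Groth.L20.ModStalk.germ_smul L hxV c (Groth.L18.Frame.rs L hVW' e)))
    refine Eq.trans (TopCat.Presheaf.stalkFunctor_map_germ_apply ⊤ x trivial _
      (Groth.L21.RR.oneSec X)) ?_
    exact (TopCat.Presheaf.germ_res_apply L.presheaf (homOfLE (le_top (a := V))) x hxV
      (Groth.L18.GenLoc.secOf s)).symm
  · rw [Groth.L20.SeeNormal.sI_eq _ ⟨V, hV⟩ hxV, Groth.L22.ZeroScheme.zeroScheme_ideal hL]
    have : Groth.L22.ZeroScheme.idealOn s V = Ideal.span {c} := by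
      refine le_antisymm (fun a ha => ?_) (by
        rw [Ideal.span_le, Set.singleton_subset_iff, SetLike.mem_coe, Groth.L22.ZeroScheme.mem_idealOn_iff]
        intro m
        obtain ⟨d, hd⟩ := he'.exists_coeff le_rfl m
        rw [Groth.L18.Frame.rs_self] at hd
        exact ⟨d, by rw [← hd, ← hc, smul_smul, smul_smul, mul_comm]⟩)
      obtain ⟨b, hb⟩ := (Groth.L22.ZeroScheme.mem_idealOn_iff s V a).1 ha (Groth.L18.Frame.rs L hVW' e)
      rw [← hc, smul_smul] at hb
      rw [Ideal.mem_span_singleton']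
      refine ⟨b, (he'.inj le_rfl ?_).symm⟩
      rwa [Groth.L18.Frame.rs_self]
    show (Groth.L22.ZeroScheme.idealOn s V).map _ = _
    rw [this, Ideal.map_span, Set.image_singleton]

/-- A section of an invertible module as a map out of an inverse. -/
theorem exists_sec {L : X.Modules} (hL : PicF.IsInvertible L) (s : Coh.structureModule X ⟶ L) :
    ∃ S : Sec (PicF2.zeroScheme L s), S.L = L := by
  obtain ⟨L₀, -, ⟨i⟩⟩ := Groth.L08.Cube.exists_inverse hL
  refine ⟨⟨CohB1.tensorMod (Coh.structureModule X) L₀, L, tensorMap s (𝟙 L₀) ≫ i.hom,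
    tensorIso (Iso.refl L) (tensorUnitLeft L₀) ≪≫ i, hL, fun x => ?_⟩, rfl⟩
  obtain ⟨e, he, r, hr, hI⟩ := exists_sI_zeroScheme hL s x
  let R := X.presheaf.stalk x
  let A : (Groth.L00.Stk.F X x).obj L₀ ≃ₗ[R] (Groth.L00.Stk.F X x).obj (Coh.structureModule X) :=
    tensE x L e he L₀ ≪≫ₗ ((Groth.L00.Stk.F X x).mapIso i).toLinearEquiv
  let O₁ := (Coh.structureModule X).presheaf.stalk x
  let eO : R ≃ₗ[R] (Groth.L00.Stk.F X x).obj (Coh.structureModule X) :=
    LinearEquiv.ofBijective (LinearMap.toSpanSingleton R O₁ (Groth.L21.RR.one X x))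
      (Groth.L21.RR.bijective_smul_one x)
  let B := eO ≪≫ₗ A.symm ≪≫ₗ
    tensE x _ (Groth.L21.RR.one X x) (Groth.L21.RR.bijective_smul_one x) L₀
  refine ⟨B 1, ?_, r, ?_, hI⟩
  · have hB : (fun a : R => a • B 1) = B := funext fun a => by
      rw [← map_smul, smul_eq_mul, mul_one]
    show Function.Bijective (fun a : R => a • B 1)
    rw [hB]
    exact B.bijective
  · show sm x (tensorMap s (𝟙 L₀) ≫ i.hom) (B 1) = r • (show (Groth.L00.Stk.F X x).obj (Coh.structureModule X) from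
      Groth.L21.RR.one X x)
    have h1 : eO 1 = (show (Groth.L00.Stk.F X x).obj (Coh.structureModule X) from Groth.L21.RR.one X x) :=
      one_smul R _
    rw [sm_comp, show B 1 = tensE x _ _ (Groth.L21.RR.bijective_smul_one x) L₀ (A.symm (eO 1)) from rfl,
      tensE_natural x s _ _ e he r hr, sm_id, map_smul, sm_smul, h1]
    exact congrArg (r • ·) (A.apply_symm_apply _)

namespace Sec

variable {I : X.IdealSheafData} (S : Sec I)

/-- `M^⊗a ⊗ -`. -/
def Pw : ℕ → X.Modules ⥤ X.Modules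
  | 0 => 𝟭 _
  | a + 1 => Pw a ⋙ tensorLeftF S.M

/-- Multiplication by the section. -/
def μ₁ (G : X.Modules) : (tensorLeftF S.M).obj G ⟶ G := tensorMap S.σ (𝟙 G) ≫ (tensorUnitLeft G).hom

theorem μ₁_natural {G G' : X.Modules} (g : G ⟶ G') : (tensorLeftF S.M).map g ≫ S.μ₁ G' = S.μ₁ G ≫ g := by
  have h1 : tensorMap (𝟙 S.M) g ≫ tensorMap S.σ (𝟙 G') = tensorMap S.σ g := by
    rw [← tensorMap_comp, Category.id_comp, Category.comp_id]
  have h2 : tensorMap S.σ (𝟙 G) ≫ tensorMap (𝟙 (Coh.structureModule X)) g = tensorMap S.σ g := by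
    rw [← tensorMap_comp, Category.comp_id, Category.id_comp]
  calc tensorMap (𝟙 S.M) g ≫ tensorMap S.σ (𝟙 G') ≫ (tensorUnitLeft G').hom
      = (tensorMap S.σ (𝟙 G) ≫ tensorMap (𝟙 (Coh.structureModule X)) g) ≫ (tensorUnitLeft G').hom := by
        rw [← Category.assoc, h1, h2]
    _ = tensorMap S.σ (𝟙 G) ≫ (tensorUnitLeft G).hom ≫ g := (Category.assoc _ _ _).trans
        (congrArg (tensorMap S.σ (𝟙 G) ≫ ·) (Groth.L16.Existence.tensorUnitLeft_natural g))
    _ = _ := (Category.assoc _ _ _).symm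

/-- Multiplication by a power of the section. -/
def μ : ∀ (a : ℕ) (G : X.Modules), (S.Pw a).obj G ⟶ G
  | 0, G => 𝟙 G
  | a + 1, G => S.μ₁ ((S.Pw a).obj G) ≫ μ a G

theorem μ_natural : ∀ (a : ℕ) {G G' : X.Modules} (g : G ⟶ G'), (S.Pw a).map g ≫ S.μ a G' = S.μ a G ≫ g
  | 0, G, G', g => (Category.comp_id g).trans (Category.id_comp g).symm
  | a + 1, G, G', g => by
    show (tensorLeftF S.M).map ((S.Pw a).map g) ≫ S.μ₁ _ ≫ S.μ a G' = (S.μ₁ _ ≫ S.μ a G) ≫ g
    rw [← Category.assoc, μ₁_natural, Category.assoc, μ_natural a g, Category.assoc]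

theorem μ_add : ∀ (a b : ℕ) (G : X.Modules),
    ∃ e : (S.Pw (a + b)).obj G ≅ (S.Pw a).obj ((S.Pw b).obj G),
      e.hom ≫ S.μ a ((S.Pw b).obj G) ≫ S.μ b G = S.μ (a + b) G := by
  intro a
  induction a with
  | zero =>
    intro b G
    have key : ∀ n (h : n = b), ∃ e : (S.Pw n).obj G ≅ (S.Pw b).obj G, e.hom ≫ S.μ b G = S.μ n G := by
      rintro n rfl
      exact ⟨Iso.refl _, Category.id_comp _⟩
    obtain ⟨e, he⟩ := key _ (Nat.zero_add b)
    exact ⟨e, by rw [← he]; exact congrArg (e.hom ≫ ·) (Category.id_comp _)⟩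
  | succ a ih =>
    intro b G
    obtain ⟨e, he⟩ := ih b G
    have key : ∀ n (h : n = a + b + 1), ∃ e' : (S.Pw n).obj G ≅ (S.Pw (a + 1)).obj ((S.Pw b).obj G),
        e'.hom ≫ S.μ (a + 1) ((S.Pw b).obj G) ≫ S.μ b G = S.μ n G := by
      rintro n rfl
      refine ⟨(tensorLeftF S.M).mapIso e, ?_⟩
      show (tensorLeftF S.M).map e.hom ≫ (S.μ₁ _ ≫ S.μ a _) ≫ S.μ b G = S.μ₁ _ ≫ S.μ (a + b) G
      rw [Category.assoc, ← Category.assoc ((tensorLeftF S.M).map e.hom), μ₁_natural, Category.assoc, he]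
    exact key _ (by omega)

theorem isInvertible_M : PicF.IsInvertible S.M := Groth.L22.EnrSev.isInvertible_of_inverse S.invL S.inv

instance isEquivalence_leftM : (tensorLeftF S.M).IsEquivalence := by
  haveI : (tensorRightF S.M).IsEquivalence :=
    Groth.L22.PDual.isEquivalence_tensorRightF (tensorComm S.M S.L ≪≫ S.inv)
  exact Functor.isEquivalence_of_iso (tensorFlipIso S.M)

theorem isEquivalence_Pw : ∀ a, (S.Pw a).IsEquivalence
  | 0 => inferInstanceAs (𝟭 X.Modules).IsEquivalence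
  | a + 1 => by
    haveI := isEquivalence_Pw a
    exact inferInstanceAs (S.Pw a ⋙ tensorLeftF S.M).IsEquivalence

instance (a : ℕ) : (S.Pw a).IsEquivalence := S.isEquivalence_Pw a

instance (a : ℕ) : (S.Pw a).Additive := Functor.additive_of_preserves_binary_products _

/-- The stalks of a power against those of a module. -/
def β (x : X) (e : S.M.presheaf.stalk x) (he : Function.Bijective fun a : X.presheaf.stalk x => a • e) :
    ∀ (a : ℕ) (G : X.Modules),
      (Groth.L00.Stk.F X x).obj G ≃ₗ[X.presheaf.stalk x] (Groth.L00.Stk.F X x).obj ((S.Pw a).obj G)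
  | 0, _ => LinearEquiv.refl _ _
  | a + 1, G => β x e he a G ≪≫ₗ tensE x S.M e he ((S.Pw a).obj G)

theorem β_natural (x : X) (e : S.M.presheaf.stalk x) (he : Function.Bijective fun a : X.presheaf.stalk x => a • e) :
    ∀ (a : ℕ) {G G' : X.Modules} (g : G ⟶ G') (v : (Groth.L00.Stk.F X x).obj G),
      sm x ((S.Pw a).map g) (S.β x e he a G v) = S.β x e he a G' (sm x g v)
  | 0, _, _, _, _ => rfl
  | a + 1, G, G', g, v => by
    show sm x (tensorMap (𝟙 S.M) ((S.Pw a).map g)) (tensE x S.M e he _ (S.β x e he a G v)) =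
      tensE x S.M e he _ (S.β x e he a G' (sm x g v))
    rw [tensE_natural x (𝟙 S.M) e he e he 1 ((sm_id x _).trans (one_smul _ e).symm), one_smul,
      β_natural x e he a g v]

theorem exists_μ₁_stalk (x : X) (e : S.M.presheaf.stalk x)
    (he : Function.Bijective fun a : X.presheaf.stalk x => a • e) (r : X.presheaf.stalk x)
    (hr : (show (Coh.structureModule X).presheaf.stalk x from sm x S.σ e) = r • Groth.L21.RR.one X x)
    (G : X.Modules) :
    ∃ α : (Groth.L00.Stk.F X x).obj G ≃ₗ[X.presheaf.stalk x] (Groth.L00.Stk.F X x).obj G,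
      ∀ v, sm x (S.μ₁ G) (tensE x S.M e he G v) = r • α v :=
  ⟨tensE x _ (Groth.L21.RR.one X x) (Groth.L21.RR.bijective_smul_one x) G ≪≫ₗ
    ((Groth.L00.Stk.F X x).mapIso (tensorUnitLeft G)).toLinearEquiv, fun v => by
    rw [μ₁, sm_comp, tensE_natural x _ e he _ (Groth.L21.RR.bijective_smul_one x) r hr, sm_id, map_smul, sm_smul]
    rfl⟩

theorem exists_μ_stalk (x : X) (e : S.M.presheaf.stalk x)
    (he : Function.Bijective fun a : X.presheaf.stalk x => a • e) (r : X.presheaf.stalk x)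
    (hr : (show (Coh.structureModule X).presheaf.stalk x from sm x S.σ e) = r • Groth.L21.RR.one X x) :
    ∀ (a : ℕ) (G : X.Modules),
      ∃ γ : (Groth.L00.Stk.F X x).obj G ≃ₗ[X.presheaf.stalk x] (Groth.L00.Stk.F X x).obj G,
        ∀ v, sm x (S.μ a G) (S.β x e he a G v) = r ^ a • γ v
  | 0, G => ⟨LinearEquiv.refl _ _, fun v => by
      show sm x (𝟙 G) v = r ^ 0 • v
      rw [sm_id, pow_zero, one_smul]⟩
  | a + 1, G => by
    obtain ⟨γ, hγ⟩ := exists_μ_stalk x e he r hr a G
    obtain ⟨α, hα⟩ := S.exists_μ₁_stalk x e he r hr ((S.Pw a).obj G)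
    refine ⟨S.β x e he a G ≪≫ₗ α ≪≫ₗ (S.β x e he a G).symm ≪≫ₗ γ, fun v => ?_⟩
    show sm x (S.μ₁ _ ≫ S.μ a G) (tensE x S.M e he _ (S.β x e he a G v)) = _
    rw [sm_comp, hα, sm_smul, pow_succ, mul_comm, mul_smul]
    refine congrArg (r • ·) ?_
    refine Eq.trans ?_ (hγ _)
    exact congrArg (sm x (S.μ a G)) ((S.β x e he a G).apply_symm_apply _).symm

theorem mul_of_span {x : X} {r t : X.presheaf.stalk x} (hr : sI I x = Ideal.span {r})
    (ht : sI I x = Ideal.span {t}) (a : ℕ) : ∃ u : X.presheaf.stalk x, r ^ a = t ^ a * u := by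
  obtain ⟨u, hu⟩ := Ideal.mem_span_singleton'.1 (ht ▸ hr ▸ Ideal.mem_span_singleton_self r)
  exact ⟨u ^ a, by rw [← hu, mul_pow, mul_comm]⟩

/-- The image of the multiplication. -/
theorem exists_μ_eq_iff (x : X) {t : X.presheaf.stalk x} (ht : sI I x = Ideal.span {t}) (a : ℕ) (G : X.Modules)
    (v : (Groth.L00.Stk.F X x).obj G) : (∃ z, sm x (S.μ a G) z = v) ↔ ∃ w, t ^ a • w = v := by
  obtain ⟨e, he, r, hr, hrI⟩ := S.gen x
  obtain ⟨γ, hγ⟩ := S.exists_μ_stalk x e he r hr a G
  constructor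
  · rintro ⟨z, rfl⟩
    obtain ⟨z, rfl⟩ := (S.β x e he a G).surjective z
    obtain ⟨u, hu⟩ := mul_of_span hrI ht a
    exact ⟨u • γ z, by rw [hγ, hu, mul_smul]⟩
  · rintro ⟨w, rfl⟩
    obtain ⟨u, hu⟩ := mul_of_span ht hrI a
    exact ⟨S.β x e he a G (γ.symm (u • w)), by rw [hγ, γ.apply_symm_apply, hu, mul_smul]⟩

/-- The kernel of the multiplication. -/
theorem exists_equiv_μ_eq_zero (x : X) (a : ℕ) :
    ∃ (β : ∀ G : X.Modules, (Groth.L00.Stk.F X x).obj G ≃ₗ[X.presheaf.stalk x]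
        (Groth.L00.Stk.F X x).obj ((S.Pw a).obj G)),
      (∀ {G G' : X.Modules} (g : G ⟶ G') v, sm x ((S.Pw a).map g) (β G v) = β G' (sm x g v)) ∧
      ∀ (t : X.presheaf.stalk x), sI I x = Ideal.span {t} → ∀ G v, sm x (S.μ a G) (β G v) = 0 ↔ t ^ a • v = 0 := by
  obtain ⟨e, he, r, hr, hrI⟩ := S.gen x
  refine ⟨fun G => S.β x e he a G, fun g v => S.β_natural x e he a g v, fun t ht G v => ?_⟩
  obtain ⟨γ, hγ⟩ := S.exists_μ_stalk x e he r hr a G
  rw [hγ, ← map_smul, γ.map_eq_zero_iff]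
  constructor
  · intro h
    obtain ⟨u, hu⟩ := mul_of_span ht hrI a
    rw [hu, mul_comm, mul_smul, h, smul_zero]
  · intro h
    obtain ⟨u, hu⟩ := mul_of_span hrI ht a
    rw [hu, mul_comm, mul_smul, h, smul_zero]

include S in
theorem exists_gen (x : X) : ∃ t : X.presheaf.stalk x, sI I x = Ideal.span {t} :=
  let ⟨_, _, r, _, h⟩ := S.gen x
  ⟨r, h⟩

/-- The powers of the inverse cancel. -/
theorem nonempty_Pw_twist (G : X.Modules) : ∀ (a d : ℕ),
    Nonempty (CohB1.tensorMod ((S.Pw (d + a)).obj G) (CohB1.tensorPow S.L a) ≅ (S.Pw d).obj G)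
  | 0, d => ⟨tensorUnitRight _⟩
  | a + 1, d => by
    obtain ⟨e⟩ := nonempty_Pw_twist G a d
    let H := (S.Pw (d + a)).obj G
    let P := CohB1.tensorPow S.L a
    exact ⟨(tensorAssoc (CohB1.tensorMod S.M H) P S.L).symm ≪≫
      tensorIso (tensorAssoc S.M H P ≪≫ tensorComm _ _) (Iso.refl S.L) ≪≫
      tensorAssoc (CohB1.tensorMod H P) S.M S.L ≪≫
      tensorIso e (tensorComm S.M S.L ≪≫ S.inv) ≪≫ tensorUnitRight _⟩

theorem isCoh_Pw [IsLocallyNoetherian X] : ∀ (a : ℕ) {G : X.Modules}, Coh.IsCoh G → Coh.IsCoh ((S.Pw a).obj G)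
  | 0, _, h => h
  | a + 1, G, h => Groth.L16.CohSupport.isCoh_of_iso (tensorComm _ _)
      (Groth.L03.Euler.isCoh_tensor S.isInvertible_M (isCoh_Pw a h))

end Sec

end Groth.L13.AlgzSec
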