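import Groth.Agent.L13.AlgzSec.Quot
import Groth.Agent.L18.LefTowerSys
import Groth.Agent.L22.Reg.Lin

/-!
# Systems of bundles on the thickenings, and their towers modulo torsion
-/

set_option autoImplicit false
set_option linter.style.haveILetI false
set_option linter.unusedSectionVars false
set_option backward.isDefEq.respectTransparency false
set_option backward.isDefEq.respectTransparency.types false
universe u

open CategoryTheory CategoryTheory.Limits AlgebraicGeometry Opposite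

noncomputable section

namespace Groth.L13.AlgzSec

open Groth.L22.Reg (sm sm_comp sm_id sm_map_sub sm_map_zero sm_zero sm_map_add)
open Groth.L18.LefTower (sm_smul surjective_sm injective_sm exists_preimage_of_sm_eq_zero epi_of_sm)
open Groth.L20.SeeNormal (sI)

variable {X : Scheme.{u}} {I : X.IdealSheafData}

variable (I) in
/-- A system of bundles on the thickenings, each the reduction of the next. -/
structure VSys where
  /-- the levels, as modules on `X` -/
  G : ℕ → X.Modules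
  /-- the transition maps -/
  tr : ∀ n, G (n + 1) ⟶ G n
  vb : ∀ n, ∃ V : (I ^ (n + 1)).subscheme.Modules, FlatMod.IsFinLocFree V ∧
    Nonempty (G n ≅ (Scheme.Modules.pushforward (I ^ (n + 1)).subschemeι).obj V)
  surj : ∀ n x, Function.Surjective (sm x (tr n))
  ker_tr : ∀ n (x : X) (t : X.presheaf.stalk x), sI I x = Ideal.span {t} →
    ∀ v : (Groth.L00.Stk.F X x).obj (G (n + 1)), sm x (tr n) v = 0 → ∃ w, t ^ (n + 1) • w = v

/-- The stalks of a bundle on a thickening. -/
theorem exists_frame_push (n : ℕ) {V : (I ^ n).subscheme.Modules} (hV : FlatMod.IsFinLocFree V) (x : X)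
    {t : X.presheaf.stalk x} (ht : sI I x = Ideal.span {t}) :
    ∃ (m : ℕ) (b : Fin m → (Groth.L00.Stk.F X x).obj ((Scheme.Modules.pushforward (I ^ n).subschemeι).obj V)),
      (∀ v, ∃ c : Fin m → X.presheaf.stalk x, ∑ i, c i • b i = v) ∧
      ∀ c : Fin m → X.presheaf.stalk x, ∑ i, c i • b i = 0 ↔ ∀ i, c i ∈ Ideal.span {t ^ n} := by
  let j := (I ^ n).subschemeι
  by_cases hx : x ∈ Set.range j
  · obtain ⟨z, rfl⟩ := hx
    let E := Groth.L18.NegVanish.pushE j V z
    let R := ((I ^ n).subscheme).presheaf.stalk z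
    haveI : Module.Free R (V.presheaf.stalk z) := Groth.L18.LFP.free_stalk V hV z
    haveI : Module.Finite R (V.presheaf.stalk z) :=
      Groth.L18.LFP.finite_stalk V ((Groth.L18.LFP.isFP_and_free_iff V).2 hV).1 z
    let B := Module.finBasis R (V.presheaf.stalk z)
    have hk : ∀ c, E.φ c = 0 ↔ c ∈ Ideal.span {t ^ n} := fun c => by
      rw [← RingHom.mem_ker, show RingHom.ker E.φ = sI (j).ker (j z) from
        Groth.L20.Infinitesimal.ker_stalkMap j z, Scheme.IdealSheafData.ker_subschemeι,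
        Groth.L20.Infinitesimal.sI_pow, ht, Ideal.span_singleton_pow]
    have hsum : ∀ c : Fin _ → X.presheaf.stalk (j z),
        E.e (∑ i, c i • E.e.symm (B i)) = ∑ i, E.φ (c i) • B i := fun c => by
      rw [map_sum]
      exact Finset.sum_congr rfl fun i _ => (E.map_smul _ _).trans (by rw [E.e.apply_symm_apply])
    refine ⟨_, fun i => E.e.symm (B i), fun v => ?_, fun c => ?_⟩
    · choose c hc using fun i => E.surj (B.repr (E.e v) i)
      exact ⟨c, E.e.injective (by simp only [hsum, hc, B.sum_repr])⟩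
    · refine Iff.trans ⟨fun h => ?_, fun h => E.e.injective ?_⟩ (forall_congr' fun i => hk (c i))
      · refine Fintype.linearIndependent_iff.1 B.linearIndependent (fun i => E.φ (c i)) ?_
        exact (hsum c).symm.trans ((congrArg E.e h).trans (map_zero _))
      · rw [hsum, map_zero]
        exact Finset.sum_eq_zero fun i _ => by rw [h i]; exact zero_smul _ _
  · haveI : Subsingleton ((Groth.L00.Stk.F X x).obj ((Scheme.Modules.pushforward j).obj V)) :=
      Groth.L17.ClosedPush.subsingleton_stalk_push j V hx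
    exact ⟨0, Fin.elim0, fun v => ⟨Fin.elim0, Subsingleton.elim _ _⟩,
      fun c => ⟨fun _ i => i.elim0, fun _ => Subsingleton.elim _ _⟩⟩

/-- An element of `J•⊤` has coordinates in `J`. -/
theorem exists_coeff {R M : Type u} [CommRing R] [AddCommGroup M] [Module R M] {m : ℕ} (b : Fin m → M)
    (hb : ∀ v, ∃ c : Fin m → R, ∑ i, c i • b i = v) (J : Ideal R) {v : M}
    (hv : v ∈ J • (⊤ : Submodule R M)) : ∃ c : Fin m → R, (∀ i, c i ∈ J) ∧ ∑ i, c i • b i = v := by
  refine Submodule.smul_induction_on hv (fun r hr a _ => ?_) fun a a' ⟨c, hc, ha⟩ ⟨c', hc', ha'⟩ => ?_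
  · obtain ⟨c, rfl⟩ := hb a
    exact ⟨fun i => r * c i, fun i => J.mul_mem_right _ hr, by simp only [Finset.smul_sum, smul_smul]⟩
  · exact ⟨c + c', fun i => J.add_mem (hc i) (hc' i), by
      simp only [Pi.add_apply, add_smul, Finset.sum_add_distrib, ha, ha']⟩

namespace VSys

variable (T : VSys I)

/-- Frames of the levels. -/
theorem exists_frame (n : ℕ) (x : X) {t : X.presheaf.stalk x} (ht : sI I x = Ideal.span {t}) :
    ∃ (m : ℕ) (b : Fin m → (Groth.L00.Stk.F X x).obj (T.G n)),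
      (∀ v, ∃ c : Fin m → X.presheaf.stalk x, ∑ i, c i • b i = v) ∧
      ∀ c : Fin m → X.presheaf.stalk x, ∑ i, c i • b i = 0 ↔ ∀ i, c i ∈ Ideal.span {t ^ (n + 1)} := by
  obtain ⟨V, hV, ⟨e⟩⟩ := T.vb n
  obtain ⟨m, b, h1, h2⟩ := exists_frame_push (n + 1) hV x ht
  let ε := ((Groth.L00.Stk.F X x).mapIso e).toLinearEquiv
  have hsum : ∀ c : Fin m → X.presheaf.stalk x, ε (∑ i, c i • ε.symm (b i)) = ∑ i, c i • b i := fun c => by
    simp only [map_sum, map_smul, ε.apply_symm_apply]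
  refine ⟨m, fun i => ε.symm (b i), fun v => ?_, fun c => ?_⟩
  · obtain ⟨c, hc⟩ := h1 (ε v)
    exact ⟨c, ε.injective ((hsum c).trans hc)⟩
  · rw [← h2 c, ← hsum c, LinearEquiv.map_eq_zero_iff]

theorem kill (n : ℕ) (x : X) (t : X.presheaf.stalk x) (ht : sI I x = Ideal.span {t})
    (v : (Groth.L00.Stk.F X x).obj (T.G n)) : t ^ (n + 1) • v = 0 := by
  obtain ⟨m, b, h1, h2⟩ := T.exists_frame n x ht
  obtain ⟨c, rfl⟩ := h1 v
  simp only [Finset.smul_sum, smul_smul]
  exact (h2 _).2 fun i => Ideal.mul_mem_right _ _ (Ideal.mem_span_singleton_self _)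

theorem coh [IsLocallyNoetherian X] (n : ℕ) : Coh.IsCoh (T.G n) := by
  obtain ⟨V, hV, ⟨e⟩⟩ := T.vb n
  haveI : IsLocallyNoetherian (I ^ (n + 1)).subscheme :=
    LocallyOfFiniteType.isLocallyNoetherian (I ^ (n + 1)).subschemeι
  exact Groth.L16.CohSupport.isCoh_of_iso e.symm
    (Groth.L16.CohClosedPush.isCoh_push _ (Groth.L16.NegPow.isCoh_of_isFinLocFree hV))

variable (Q : Sec.TF (I := I))

theorem kill_K (x : X) {n : ℕ} {v : (Groth.L00.Stk.F X x).obj (T.G n)} (hv : v ∈ Q.K x • (⊤ : Submodule (X.presheaf.stalk x) _))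
    (t : X.presheaf.stalk x) (ht : sI I x = Ideal.span {t}) : t ^ Q.N • v = 0 := by
  refine Submodule.smul_induction_on hv (fun c hc a _ => ?_) fun a b ha hb => by rw [smul_add, ha, hb, add_zero]
  rw [smul_smul, hc t ht, zero_smul]

/-- The torsion parts of the high levels map injectively. -/
theorem eq_zero_of_mem_K {n : ℕ} (hn : Q.N ≤ n) (x : X) (ht' : ∃ t, sI I x = Ideal.span {t})
    {v : (Groth.L00.Stk.F X x).obj (T.G (n + 1))} (hv : v ∈ Q.K x • (⊤ : Submodule (X.presheaf.stalk x) _))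
    (h0 : sm x (T.tr n) v = 0) : v = 0 := by
  obtain ⟨t, ht⟩ := ht'
  obtain ⟨m, b, h1, h2⟩ := T.exists_frame (n + 1) x ht
  obtain ⟨c, hc, rfl⟩ := exists_coeff b h1 _ hv
  obtain ⟨w, hw⟩ := T.ker_tr n x t ht _ h0
  obtain ⟨d, rfl⟩ := h1 w
  have h3 : ∑ i, (c i - t ^ (n + 1) * d i) • b i = 0 := by
    simp only [sub_smul, Finset.sum_sub_distrib, mul_smul, ← Finset.smul_sum, hw, sub_self]
  refine (h2 c).2 fun i => ?_
  obtain ⟨e, he⟩ := Ideal.mem_span_singleton'.1 ((h2 _).1 h3 i)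
  let g := e * t + d i
  have hci : c i = t ^ (n + 1) * g := by rw [pow_succ t (n + 1)] at he; linear_combination (-1 : X.presheaf.stalk x) * he
  have h4 : t ^ (Q.N + (n + 1)) * g = 0 := by rw [pow_add, mul_assoc, ← hci]; exact hc i t ht
  have h5 := Q.bound x t ht _ (Nat.le_add_right _ _) g h4
  obtain ⟨δ, hδ⟩ := Nat.exists_eq_add_of_le (show Q.N ≤ n + 1 by omega)
  have h6 : c i = 0 := by rw [hci, hδ, pow_add, mul_comm (t ^ Q.N), mul_assoc, h5, mul_zero]
  rw [h6]
  exact Submodule.zero_mem _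

theorem K_surj (n : ℕ) (x : X) {v : (Groth.L00.Stk.F X x).obj (T.G n)}
    (hv : v ∈ Q.K x • (⊤ : Submodule (X.presheaf.stalk x) _)) :
    ∃ w ∈ Q.K x • (⊤ : Submodule (X.presheaf.stalk x) ((Groth.L00.Stk.F X x).obj (T.G (n + 1)))),
      sm x (T.tr n) w = v := by
  refine Submodule.smul_induction_on hv (fun c hc a _ => ?_) fun a b ⟨w, hw, ha⟩ ⟨w', hw', hb⟩ => ?_
  · obtain ⟨w, rfl⟩ := T.surj n x a
    exact ⟨c • w, Submodule.smul_mem_smul hc Submodule.mem_top, sm_smul _ _ _⟩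
  · exact ⟨w + w', add_mem hw hw', by rw [sm_map_add, ha, hb]⟩

/-- The tower of a system modulo torsion. -/
def tower [IsLocallyNoetherian X] (hgen : ∀ x, ∃ t, sI I x = Ideal.span {t}) : Groth.L18.LefTower.Tower I where
  G n := Q.Φ.obj (T.G n)
  tr n := Q.Φ.map (T.tr n)
  coh n := Q.isCoh_Φ (T.coh n)
  surj n x v := by
    obtain ⟨w, rfl⟩ := (Q.π_stalk x (hgen x) (T.G n)).1 v
    obtain ⟨z, rfl⟩ := T.surj n x w
    exact ⟨sm x (Q.π _) z, by rw [← sm_comp, ← Q.π_natural, sm_comp]⟩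
  kill n x s hs v := by
    obtain ⟨w, rfl⟩ := (Q.π_stalk x (hgen x) (T.G n)).1 v
    rw [← sm_smul, T.kill n x s hs, sm_map_zero]
  ker_tr n x s hs v hv := by
    obtain ⟨w, rfl⟩ := (Q.π_stalk x (hgen x) (T.G (n + 1))).1 v
    rw [← sm_comp, ← Q.π_natural, sm_comp] at hv
    obtain ⟨k, hk, hk'⟩ := T.K_surj Q n x (((Q.π_stalk x (hgen x) _).2 _).1 hv)
    obtain ⟨u, hu⟩ := T.ker_tr n x s hs (w - k) (by rw [sm_map_sub, hk', sub_self])
    refine ⟨sm x (Q.π _) u, ?_⟩
    rw [← sm_smul, hu, sm_map_sub, ((Q.π_stalk x (hgen x) _).2 k).2 hk, sub_zero]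
  ann n a b x s hs hab v hv := by
    obtain ⟨w, rfl⟩ := (Q.π_stalk x (hgen x) (T.G n)).1 v
    rw [← sm_smul] at hv
    obtain ⟨m, f, h1, h2⟩ := T.exists_frame n x hs
    obtain ⟨c, rfl⟩ := h1 w
    obtain ⟨k, hk, hk'⟩ := exists_coeff f h1 _ (((Q.π_stalk x (hgen x) _).2 _).1 hv)
    have h3 : ∑ i, (k i - s ^ a * c i) • f i = 0 := by
      simp only [sub_smul, Finset.sum_sub_distrib, mul_smul, ← Finset.smul_sum, hk', sub_self]
    choose e he using fun i => Ideal.mem_span_singleton'.1 ((h2 _).1 h3 i)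
    let d : Fin m → X.presheaf.stalk x := fun i => -e i
    refine ⟨sm x (Q.π _) (∑ i, d i • f i), ?_⟩
    rw [← sm_smul, ← sub_eq_zero, ← sm_map_sub]
    refine ((Q.π_stalk x (hgen x) _).2 _).2 ?_
    have h4 : s ^ b • ∑ i, d i • f i - ∑ i, c i • f i = ∑ i, (s ^ b * d i - c i) • f i := by
      simp only [sub_smul, Finset.sum_sub_distrib, mul_smul, ← Finset.smul_sum]
    rw [h4]
    refine Submodule.sum_mem _ fun i _ => Submodule.smul_mem_smul ?_ Submodule.mem_top
    rw [Q.mem_K_iff hs]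
    refine Q.bound x s hs (Q.N + a) (Nat.le_add_right _ _) _ ?_
    have h5 : s ^ Q.N * k i = 0 := hk i s hs
    have h6 := he i
    rw [← hab, pow_add] at h6
    show s ^ (Q.N + a) * (s ^ b * -e i - c i) = 0
    rw [pow_add]
    linear_combination -h5 - s ^ Q.N * h6

end VSys

end Groth.L13.AlgzSec
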