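import Groth.Agent.L13.AlgzSec.Cover
import Groth.Agent.L18.LefTowerSys

/-!
# Systems of bundles: from the completion, reductions of a bundle, kernels
-/

set_option autoImplicit false
set_option linter.style.haveILetI false
set_option linter.unusedSectionVars false
set_option backward.isDefEq.respectTransparency false
set_option backward.isDefEq.respectTransparency.types false
universe u

open CategoryTheory CategoryTheory.Limits AlgebraicGeometry Opposite

noncomputable section

namespace Groth.L13.AlgzSec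

open Groth.L22.Reg (sm sm_comp sm_id sm_map_sub sm_map_zero sm_zero sm_map_add)
open Groth.L18.LefTower (sm_smul surjective_sm injective_sm epi_of_sm mono_of_sm exists_kernel_preimage gTr_spec)
open Groth.L18.Frame (rs)
open Groth.L19.ProjBdl (app_rs)
open Groth.L17.FSheaf (gObj gTr)
open Groth.L20.SeeNormal (sI)
open Groth.L17.IdealMulSec (η)

variable {X : Scheme.{u}} [IsLocallyNoetherian X] (I : X.IdealSheafData)

/-- The system of a levelwise locally free system on the completion. -/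
def sysOf (𝔐 : FSch.ModSys (FSch.completionAlong X I)) (hfree : LefX.LevelwiseFinLocFree 𝔐) : VSys I where
  G n := gObj (FSch.completionAlong X I) (FSch.completionToX X I) 𝔐 n
  tr n := gTr (FSch.completionAlong X I) (FSch.completionToX X I) (FSch.completionToX_comm X I) 𝔐 n
  vb n := ⟨𝔐.F n, hfree n, ⟨Iso.refl _⟩⟩
  surj n x v := by
    have hcoh : 𝔐.IsCoh := fun k => by
      haveI := Groth.L17.FSheaf.isClosedImmersion_completionToX I k
      haveI : IsLocallyNoetherian ((FSch.completionAlong X I).X k) := LocallyOfFiniteType.isLocallyNoetherian (FSch.completionToX X I k)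
      exact Groth.L16.NegPow.isCoh_of_isFinLocFree (hfree k)
    obtain ⟨U, hxU, z, rfl⟩ := TopCat.Presheaf.exists_germ_eq (F := (gObj (FSch.completionAlong X I) (FSch.completionToX X I) 𝔐 n).presheaf) (x := x) v
    obtain ⟨W, hW, hxW, hWU⟩ := exists_isAffineOpen_mem_and_subset (x := x) (U := U) hxU
    obtain ⟨y, hy⟩ := (gTr_spec I 𝔐 hcoh hW n).1 (rs _ hWU z)
    refine ⟨(gObj (FSch.completionAlong X I) (FSch.completionToX X I) 𝔐 (n + 1)).presheaf.germ W x hxW y, ?_⟩
    refine (TopCat.Presheaf.stalkFunctor_map_germ_apply W x hxW _ y).trans ?_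
    exact (congrArg ((gObj (FSch.completionAlong X I) (FSch.completionToX X I) 𝔐 n).presheaf.germ W x hxW) hy).trans
      (TopCat.Presheaf.germ_res_apply (gObj (FSch.completionAlong X I) (FSch.completionToX X I) 𝔐 n).presheaf (homOfLE hWU) x hxW z)
  ker_tr n x s hs v hv := by
    have hcoh : 𝔐.IsCoh := fun k => by
      haveI := Groth.L17.FSheaf.isClosedImmersion_completionToX I k
      haveI : IsLocallyNoetherian ((FSch.completionAlong X I).X k) := LocallyOfFiniteType.isLocallyNoetherian (FSch.completionToX X I k)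
      exact Groth.L16.NegPow.isCoh_of_isFinLocFree (hfree k)
    obtain ⟨U, hxU, y, rfl⟩ := TopCat.Presheaf.exists_germ_eq (F := (gObj (FSch.completionAlong X I) (FSch.completionToX X I) 𝔐 (n + 1)).presheaf) (x := x) v
    have h0 : (gObj (FSch.completionAlong X I) (FSch.completionToX X I) 𝔐 n).presheaf.germ U x hxU ((gTr (FSch.completionAlong X I) (FSch.completionToX X I) (FSch.completionToX_comm X I) 𝔐 n).app U y) =
        (gObj (FSch.completionAlong X I) (FSch.completionToX X I) 𝔐 n).presheaf.germ U x hxU 0 := by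
      rw [map_zero]
      exact (TopCat.Presheaf.stalkFunctor_map_germ_apply U x hxU _ y).symm.trans hv
    obtain ⟨U', hxU', i, j, hij⟩ := TopCat.Presheaf.germ_eq _ x hxU hxU _ _ h0
    rw [map_zero] at hij
    obtain ⟨W, hW, hxW, hWU'⟩ := exists_isAffineOpen_mem_and_subset (x := x) (U := U') hxU'
    have hWU : W ≤ U := fun z hz => i.le (hWU' hz)
    have hy : (gTr (FSch.completionAlong X I) (FSch.completionToX X I) (FSch.completionToX_comm X I) 𝔐 n).app W (rs _ hWU y) = 0 := by
      refine (app_rs _ hWU y).trans ?_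
      show (gObj (FSch.completionAlong X I) (FSch.completionToX X I) 𝔐 n).presheaf.map (homOfLE hWU).op _ = 0
      rw [show (homOfLE hWU).op = i.op ≫ (homOfLE hWU').op from Subsingleton.elim _ _, Functor.map_comp,
        ConcreteCategory.comp_apply, hij, map_zero]
    have hmem := ((gTr_spec I 𝔐 hcoh hW n).2 _).1 hy
    let G := gObj (FSch.completionAlong X I) (FSch.completionToX X I) 𝔐 (n + 1)
    have key : ∀ m ∈ (I.ideal ⟨W, hW⟩) ^ (n + 1) • (⊤ : Submodule Γ(X, W) Γ(G, W)),
        ∃ w : (Groth.L00.Stk.F X x).obj G, s ^ (n + 1) • w = G.presheaf.germ W x hxW m := by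
      intro m hm
      refine Submodule.smul_induction_on hm (fun r hr m _ => ?_) fun a b ⟨wa, ha⟩ ⟨wb, hb⟩ => ⟨wa + wb, ?_⟩
      · have h1 : X.presheaf.germ W x hxW r ∈ Ideal.span {s ^ (n + 1)} := by
          rw [← Ideal.span_singleton_pow, ← hs, Groth.L20.SeeNormal.sI_eq _ ⟨W, hW⟩ hxW, ← Ideal.map_pow]
          exact Ideal.mem_map_of_mem _ hr
        obtain ⟨c, hc⟩ := Ideal.mem_span_singleton'.1 h1
        refine ⟨c • (show (Groth.L00.Stk.F X x).obj G from G.presheaf.germ W x hxW m), ?_⟩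
        rw [Groth.L20.ModStalk.germ_smul, smul_smul, mul_comm, hc]
      · rw [smul_add, ha, hb, map_add]
    obtain ⟨w, hw⟩ := key _ hmem
    exact ⟨w, hw.trans (TopCat.Presheaf.germ_res_apply G.presheaf (homOfLE hWU) x hxW y)⟩

variable {I} (hgen : ∀ x, ∃ t, sI I x = Ideal.span {t})

/-- The reductions of a module. -/
abbrev red (E : X.Modules) (n : ℕ) : X.Modules :=
  (Scheme.Modules.pushforward (I ^ (n + 1)).subschemeι).obj
    ((Scheme.Modules.pullback (I ^ (n + 1)).subschemeι).obj E)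

include hgen in
theorem exists_red_tr (E : X.Modules) [Coh.IsQCoh E] (n : ℕ) :
    ∃ t : red (I := I) E (n + 1) ⟶ red (I := I) E n, η (I ^ (n + 1 + 1)) E ≫ t = η (I ^ (n + 1)) E := by
  haveI : Epi (η (I ^ (n + 1 + 1)) E) := Groth.L22.Reg.epi_unit (I ^ (n + 1 + 1)).subschemeι E
  have hk : kernel.ι (η (I ^ (n + 1 + 1)) E) ≫ η (I ^ (n + 1)) E = 0 := Groth.L21.Mod.hom_ext_stalk fun x => by
    ext z
    show sm x (kernel.ι (η (I ^ (n + 1 + 1)) E) ≫ η (I ^ (n + 1)) E) z = sm x (0 : kernel _ ⟶ red (I := I) E n) z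
    obtain ⟨t, ht⟩ := hgen x
    obtain ⟨w, hw⟩ := ((isRed_η (n + 1 + 1) E).2 x t ht (sm x (kernel.ι _) z)).1 (by
      rw [← sm_comp, kernel.condition, sm_zero])
    rw [sm_comp, sm_zero]
    exact ((isRed_η (n + 1) E).2 x t ht _).2 ⟨t • w, by rw [smul_smul, ← pow_succ, hw]⟩
  exact ⟨Abelian.epiDesc _ _ hk, Abelian.comp_epiDesc _ _ _⟩

/-- The system of the reductions of a bundle. -/
def bundleSys (E : X.Modules) (hE : FlatMod.IsFinLocFree E) : VSys I :=
  haveI : Coh.IsQCoh E := (Groth.L16.NegPow.isCoh_of_isFinLocFree hE).1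
  { G := red (I := I) E
    tr := fun n => (exists_red_tr hgen E n).choose
    vb := fun n => ⟨_, Groth.L29.LocFree.pullback _ hE, ⟨Iso.refl _⟩⟩
    surj := fun n x v => by
      obtain ⟨w, hw⟩ := (isRed_η (n + 1) E).1 x v
      refine ⟨sm x (η (I ^ (n + 1 + 1)) E) w, ?_⟩
      rw [← sm_comp, (exists_red_tr hgen E n).choose_spec]
      exact hw
    ker_tr := fun n x t ht v hv => by
      obtain ⟨w, rfl⟩ := (isRed_η (n + 1 + 1) E).1 x v
      rw [← sm_comp, (exists_red_tr hgen E n).choose_spec] at hv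
      obtain ⟨z, rfl⟩ := ((isRed_η (n + 1) E).2 x t ht w).1 hv
      exact ⟨sm x (η (I ^ (n + 1 + 1)) E) z, (sm_smul _ _ _).symm⟩ }

theorem bundleSys_tr (E : X.Modules) (hE : FlatMod.IsFinLocFree E) (n : ℕ) :
    η (I ^ (n + 1 + 1)) E ≫ (bundleSys hgen E hE).tr n = η (I ^ (n + 1)) E := by
  haveI : Coh.IsQCoh E := (Groth.L16.NegPow.isCoh_of_isFinLocFree hE).1
  exact (exists_red_tr hgen E n).choose_spec

include hgen in
/-- The kernel of an epimorphism of systems is a system. -/
theorem exists_kerSys (P T : VSys I) (φ : ∀ n, P.G n ⟶ T.G n)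
    (hφ : ∀ n, φ (n + 1) ≫ T.tr n = P.tr n ≫ φ n) (hs : ∀ n, Epi (φ n)) :
    ∃ (K : VSys I) (ι : ∀ n, K.G n ⟶ P.G n) (w : ∀ n, ι n ≫ φ n = 0),
      (∀ n, ι (n + 1) ≫ P.tr n = K.tr n ≫ ι n) ∧ ∀ n, (ShortComplex.mk (ι n) (φ n) (w n)).Exact := by
  refine ⟨{ G := fun n => kernel (φ n)
            tr := fun n => kernel.map _ _ (P.tr n) (T.tr n) (hφ n)
            vb := fun n => ?_
            surj := fun n x v => ?_
            ker_tr := fun n x t ht v hv => ?_ },
    fun n => kernel.ι (φ n), fun n => kernel.condition _, fun n => (kernel.lift_ι _ _ _).symm,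
    fun n => ShortComplex.exact_kernel _⟩
  · obtain ⟨V, hV, ⟨a⟩⟩ := P.vb n
    obtain ⟨V', hV', ⟨a'⟩⟩ := T.vb n
    let j := (I ^ (n + 1)).subschemeι
    let adj := Scheme.Modules.pullbackPushforwardAdjunction j
    haveI := Groth.L17.ClosedPush.isIso_counit j
    let ff := adj.fullyFaithfulROfIsIsoCounit
    haveI := ff.full
    haveI := ff.faithful
    haveI := hs n
    let ψ := (Scheme.Modules.pushforward j).preimage (a.inv ≫ φ n ≫ a'.hom)
    have hψ : (Scheme.Modules.pushforward j).map ψ = a.inv ≫ φ n ≫ a'.hom := Functor.map_preimage _ _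
    haveI : Epi ψ := (Scheme.Modules.pushforward j).epi_of_epi_map (by rw [hψ]; infer_instance)
    exact ⟨kernel ψ, Groth.L29.DC.isFinLocFree_kernel_of_epi ψ hV hV',
      ⟨kernel.mapIso (φ n) ((Scheme.Modules.pushforward j).map ψ) a a' (by rw [hψ, Iso.hom_inv_id_assoc]) ≪≫
        (PreservesKernel.iso _ ψ).symm⟩⟩
  · obtain ⟨t, ht⟩ := hgen x
    obtain ⟨z, hz⟩ := P.surj n x (sm x (kernel.ι (φ n)) v)
    haveI := hs (n + 1)
    obtain ⟨u, hu⟩ := T.ker_tr n x t ht (sm x (φ (n + 1)) z) (by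
      rw [← sm_comp, hφ, sm_comp, hz, ← sm_comp, kernel.condition, sm_zero])
    obtain ⟨u', rfl⟩ := surjective_sm (φ (n + 1)) x u
    obtain ⟨y, hy⟩ := exists_kernel_preimage (φ (n + 1)) x (v := z - t ^ (n + 1) • u') (by
      rw [sm_map_sub, sm_smul, hu, sub_self])
    refine ⟨y, injective_sm (kernel.ι (φ n)) x ?_⟩
    rw [← sm_comp, kernel.lift_ι, sm_comp, hy, sm_map_sub, sm_smul, P.kill n x t ht, sub_zero, hz]
  · haveI := hs (n + 1)
    have h0 : sm x (P.tr n) (sm x (kernel.ι (φ (n + 1))) v) = 0 := by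
      rw [← sm_comp, show kernel.ι (φ (n + 1)) ≫ P.tr n = _ from (kernel.lift_ι (φ n) _ _).symm, sm_comp]
      exact (congrArg (sm x (kernel.ι (φ n))) hv).trans (sm_map_zero x _)
    obtain ⟨w, hw⟩ := P.ker_tr n x t ht _ h0
    obtain ⟨m, b, hb, hb'⟩ := T.exists_frame (n + 1) x ht
    obtain ⟨c, hc⟩ := hb (sm x (φ (n + 1)) w)
    choose A hA using fun i => surjective_sm (φ (n + 1)) x (b i)
    have h1 : ∑ i, (t ^ (n + 1) * c i) • b i = 0 := by
      simp only [mul_smul, ← Finset.smul_sum, hc, ← sm_smul, hw]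
      rw [← sm_comp, kernel.condition, sm_zero]
    have h2 : t ^ (n + 1) • ∑ i, c i • A i = 0 := by
      simp only [Finset.smul_sum, smul_smul]
      refine Finset.sum_eq_zero fun i _ => ?_
      obtain ⟨e, he⟩ := Ideal.mem_span_singleton'.1 ((hb' _).1 h1 i)
      rw [← he, mul_smul, P.kill (n + 1) x t ht, smul_zero]
    obtain ⟨y, hy⟩ := exists_kernel_preimage (φ (n + 1)) x (v := w - ∑ i, c i • A i) (by
      rw [sm_map_sub, sub_eq_zero, ← hc]
      show _ = ((Groth.L00.Stk.F X x).map (φ (n + 1))).hom _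
      rw [map_sum]
      exact Finset.sum_congr rfl fun i _ => by rw [map_smul]; exact congrArg (c i • ·) (hA i).symm)
    refine ⟨y, injective_sm (kernel.ι (φ (n + 1))) x ?_⟩
    rw [sm_smul, hy, smul_sub, h2, sub_zero, hw]

end Groth.L13.AlgzSec
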